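import Groth.Agent.AgPol.K540.Laws
import Groth.Agent.AgPol.K841.AbLocal
import Groth.Agent.AgPol.K841.LevLocal
import Groth.Agent.AgPol.K472.AutTriv
import Groth.Agent.AgPol.K533.PolLocal

/-!
# LAWS: the stack laws of core families

`AgLaws.coreLaws` : `Node.CoreLaws g d n` from the frame nodes.
-/

set_option autoImplicit false
set_option linter.dupNamespace false
universe u

open CategoryTheory Limits MonoidalCategory CartesianMonoidalCategory AlgebraicGeometry
open scoped MonObj

namespace K540.Ag.AgLaws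

open K117.Ag

theorem abLocal : K540.Ag.Node.AbLocal.{u} := fun _ A _ g _ U hU h => K841.AbLocal.isAbSch A g U hU h

theorem levLocal : K540.Ag.Node.LevLocal.{u} := fun _ A _ g n _ U hU σ h =>
  K841.LevLocal.isLevelStr A g n U hU σ h

theorem levIso : K540.Ag.Node.LevIso.{u} := fun _ _ _ _ _ g n e _ σ h =>
  K841.LevLocal.isLevelStr_iso e g n σ h

/-- **LAWS.** -/
theorem coreLaws {g d n m : ℕ} (hF : K117.Ag.Node.Frame.{u} g d n m) (hN : K117.Ag.Node.Nhd.{u} g d n m)
    (hB : K117.Ag.Node.NormBc.{u} g n m) (hU : K117.Ag.Node.Uniq.{u} g d n m)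
    (hC : K117.Ag.Node.Closed.{u} g d n m) : K117.Ag.Node.CoreLaws.{u} g d n :=
  AgLaws.main (K472.AgAut.autTriv hF hN hB hU hC) abLocal levLocal levIso K533.PolLocal.main

end K540.Ag.AgLaws
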