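import Groth.Agent.AgPol.K540.GM
import Groth.Agent.AgPol.K117.Nodes

/-!
# Cartesian morphisms of core families

`CM f x' x m` : `m : x'.X.left ⟶ x.X.left` is cartesian over `f`, multiplicative, and respects the class and the sections.

* `CM.pull`, `CM.comp`, `CM.lift`, `r_iff`, `r_of_CM`;
* the laws `refl`, `symm`, `trans`, `pull_r`, `pull_id`, `pull_comp` of core families.
-/

set_option autoImplicit false
universe u

open CategoryTheory Limits MonoidalCategory CartesianMonoidalCategory AlgebraicGeometry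
open scoped MonObj

namespace K540.Ag

open K117.Ag Groth.Agent.Grpsch.PicGrp

variable {S : Scheme.{u}} {T T' T'' : Over S} {g : ℕ}

/-- Cartesian morphisms of core families. -/
structure CM (f : T'.left ⟶ T.left) (x' : Core T' g) (x : Core T g) (m : x'.X.left ⟶ x.X.left) : Prop where
  gm : GM f x'.X x.X m
  cls : pull m x.c = x'.c
  sec : ∀ i, (x'.σ i).left ≫ m = f ≫ (x.σ i).left

namespace CM

theorem pull (k : T' ⟶ T) (x : Core T g) : CM k.left (x.pull k) x (pullback.fst x.X.hom k.left) where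
  gm := GM.bc k.left x.X
  cls := rfl
  sec _ := pullback.lift_fst _ _ _

theorem comp {f : T'.left ⟶ T.left} {f' : T''.left ⟶ T'.left} {x : Core T g} {x' : Core T' g} {x'' : Core T'' g}
    {m : x'.X.left ⟶ x.X.left} {n : x''.X.left ⟶ x'.X.left} (h' : CM f' x'' x' n) (h : CM f x' x m) :
    CM (f' ≫ f) x'' x (n ≫ m) where
  gm := h'.gm.comp h.gm
  cls := by rw [pull_comp, h.cls, h'.cls]
  sec i := by rw [← Category.assoc, h'.sec, Category.assoc, h.sec, Category.assoc]

theorem lift {f : T'.left ⟶ T.left} {f' : T''.left ⟶ T'.left} {x : Core T g} {x' : Core T' g} {x'' : Core T'' g}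
    {m : x'.X.left ⟶ x.X.left} {n : x''.X.left ⟶ x.X.left} (h : CM f x' x m) (h' : CM (f' ≫ f) x'' x n) :
    ∃ l : x''.X.left ⟶ x'.X.left, l ≫ m = n ∧ CM f' x'' x' l := by
  obtain ⟨l, h1, h2⟩ := h.gm.lift h'.gm
  refine ⟨l, h1, h2, ?_, fun i => ?_⟩
  · rw [← h.cls, ← pull_comp, h1, h'.cls]
  · apply h.gm.pb.hom_ext
    · rw [Category.assoc, h1, h'.sec, Category.assoc, Category.assoc, h.sec]
    · have e1 : (x''.σ i).left ≫ x''.X.hom = 𝟙 _ := Over.w (x''.σ i)
      have e2 : (x'.σ i).left ≫ x'.X.hom = 𝟙 _ := Over.w (x'.σ i)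
      rw [Category.assoc, h2.pb.w]
      have e3 : (x''.σ i).left ≫ x''.X.hom ≫ f' = f' := by
        rw [← Category.assoc]
        exact (congrArg (· ≫ f') e1).trans (Category.id_comp _)
      have e4 : (f' ≫ (x'.σ i).left) ≫ x'.X.hom = f' := by
        rw [Category.assoc]
        exact (congrArg (f' ≫ ·) e2).trans (Category.comp_id _)
      exact e3.trans e4.symm

/-- Uniqueness of factorisations. -/
theorem hom_ext {f : T'.left ⟶ T.left} {x : Core T g} {x' : Core T' g} {m : x'.X.left ⟶ x.X.left} (h : CM f x' x m)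
    {Z : Scheme.{u}} {a b : Z ⟶ x'.X.left} (h1 : a ≫ m = b ≫ m) (h2 : a ≫ x'.X.hom = b ≫ x'.X.hom) : a = b :=
  h.gm.pb.hom_ext h1 h2

end CM

theorem cast_base {f f' : T'.left ⟶ T.left} {x' : Core T' g} {x : Core T g} {m : x'.X.left ⟶ x.X.left}
    (h : CM f x' x m) (e : f = f') : CM f' x' x m := by
  subst e
  exact h

theorem r_iff (x y : Core T g) : Core.r T x y ↔ ∃ m, CM (𝟙 T.left) x y m := by
  constructor
  · rintro ⟨e, he, hc, hs⟩
    refine ⟨e.hom.left, GM.ofIso e, hc, fun i => ?_⟩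
    rw [← Over.comp_left, hs]
    exact (Category.id_comp _).symm
  · rintro ⟨m, hm⟩
    obtain ⟨e, rfl, he⟩ := hm.gm.exists_iso
    refine ⟨e, he, hm.cls, fun i => ?_⟩
    ext1
    refine (hm.sec i).trans (Category.id_comp _)

theorem r_of_CM {f : T'.left ⟶ T.left} {x' y' : Core T' g} {x : Core T g} {m : x'.X.left ⟶ x.X.left}
    {n : y'.X.left ⟶ x.X.left} (h : CM f x' x m) (h' : CM f y' x n) : Core.r T' x' y' := by
  obtain ⟨l, -, hl⟩ := h'.lift (f' := 𝟙 T'.left) (cast_base h (Category.id_comp f).symm)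
  exact (r_iff _ _).2 ⟨l, hl⟩

theorem CM.of_r {k : T' ⟶ T} {x' : Core T' g} {x : Core T g} (h : Core.r T' x' (x.pull k)) :
    ∃ m, CM k.left x' x m := by
  obtain ⟨m, hm⟩ := (r_iff _ _).1 h
  exact ⟨_, cast_base (hm.comp (CM.pull k x)) (Category.id_comp _)⟩

theorem CM.r {k : T' ⟶ T} {x' : Core T' g} {x : Core T g} {m : x'.X.left ⟶ x.X.left}
    (h : CM k.left x' x m) : Core.r T' x' (x.pull k) := r_of_CM h (CM.pull k x)

theorem r_refl (x : Core T g) : Core.r T x x :=
  ⟨Iso.refl _, inferInstanceAs (IsMonHom (𝟙 x.X)), by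
    change pull (𝟙 _) x.c = x.c
    exact pull_id _, fun i => Category.comp_id _⟩

theorem CM.id (x : Core T g) : CM (𝟙 T.left) x x (𝟙 _) := by
  have : IsMonHom (Iso.refl x.X).hom := inferInstanceAs (IsMonHom (𝟙 x.X))
  have h := GM.ofIso (Iso.refl x.X)
  exact ⟨h, pull_id _, fun i => (Category.comp_id _).trans (Category.id_comp _).symm⟩

theorem r_symm {x y : Core T g} (h : Core.r T x y) : Core.r T y x := by
  obtain ⟨m, hm⟩ := (r_iff _ _).1 h
  exact r_of_CM (CM.id y) hm

theorem r_trans {x y z : Core T g} (h : Core.r T x y) (h' : Core.r T y z) : Core.r T x z := by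
  obtain ⟨m, hm⟩ := (r_iff _ _).1 h
  obtain ⟨n, hn⟩ := (r_iff _ _).1 h'
  exact (r_iff _ _).2 ⟨_, cast_base (hm.comp hn) (Category.id_comp _)⟩

theorem r_pull (k : T' ⟶ T) {x y : Core T g} (h : Core.r T x y) : Core.r T' (x.pull k) (y.pull k) := by
  obtain ⟨m, hm⟩ := (r_iff _ _).1 h
  exact CM.r (k := k) (cast_base ((CM.pull k x).comp hm) (Category.comp_id _))

theorem r_pull_id (x : Core T g) : Core.r T (x.pull (𝟙 T)) x :=
  (r_iff _ _).2 ⟨_, CM.pull (𝟙 T) x⟩

theorem r_pull_comp (k : T' ⟶ T) (l : T'' ⟶ T') (x : Core T g) :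
    Core.r T'' (x.pull (l ≫ k)) ((x.pull k).pull l) := by
  have h := (CM.pull l (x.pull k)).comp (CM.pull k x)
  rw [← Over.comp_left] at h
  exact r_symm (CM.r h)

end K540.Ag
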