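import Groth.Agent.AgPol.K540.DescCls

/-!
# Descent of core families along finite locally free coverings

`main'` : admissible core families over `T'` with isomorphic pull-backs to `T' ×_T T'` descend to `T`, from the nodes
`AbDesc`, `LevDesc`, `PolDesc`.
-/

set_option autoImplicit false
set_option linter.dupNamespace false
universe u

open CategoryTheory Limits MonoidalCategory CartesianMonoidalCategory AlgebraicGeometry
open scoped MonObj

namespace K540.Ag.FinDesc

open K117.Ag Groth.Agent.Grpsch.PicGrp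

/-- **ABDESC** -/
def AbDesc : Prop := ∀ (T T' : Scheme.{u}) (p : T' ⟶ T) [Surjective p] [IsFinite p] [Flat p]
  [LocallyOfFinitePresentation p] (A : Over T) [GrpObj A] (g : ℕ), AgPol.IsAbSch (Red.bc p A) g → AgPol.IsAbSch A g

/-- **LEVDESC** -/
def LevDesc : Prop := ∀ (T T' : Scheme.{u}) (p : T' ⟶ T) [Surjective p] [IsFinite p] [Flat p]
  [LocallyOfFinitePresentation p] (A : Over T) [GrpObj A] (g n : ℕ) (σ : Fin (2 * g) → (𝟙_ (Over T) ⟶ A)),
  AgPol.IsLevelStr (Red.bc p A) g n (fun j => secBc p (σ j)) → AgPol.IsLevelStr A g n σ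

/-- **POLDESC** -/
def PolDesc : Prop := ∀ (T T' : Scheme.{u}) [IsLocallyNoetherian T] [IsLocallyNoetherian T'] (p : T' ⟶ T)
  [Surjective p] [IsFinite p] [Flat p] [LocallyOfFinitePresentation p] (A : Over T) [GrpObj A] [IsCommMonObj A]
  (g d : ℕ), AgPol.IsAbSch A g → ∀ c : Pic A.left, pull (η[A] : 𝟙_ (Over T) ⟶ A).left c = 1 →
    IsPolCl (Red.bc p A) d (pull (pullback.fst A.hom p) c) → IsPolCl A d c

variable {S : Scheme.{u}} {g d n : ℕ}

/-- Descent of core families, up to admissibility. -/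
theorem exists_desc (hA : Node.AutTriv.{u} g d n) (hAb : AbDesc.{u}) {T T' : Over S} (p : T' ⟶ T)
    [Surjective p.left] [IsFinite p.left] [Flat p.left] [LocallyOfFinitePresentation p.left]
    (hT' : LN S T') (x : Core T' g) (hx : Core.ok g d n T' x)
    (hr : Core.r (dbl p) (x.pull (da p)) (x.pull (db p))) :
    ∃ (y : Core T g) (q : x.X.left ⟶ y.X.left), AgPol.IsAbSch y.X g ∧
      pull (η[y.X] : 𝟙_ (Over T.left) ⟶ y.X).left y.c = 1 ∧ CM p.left x y q := by
  obtain ⟨m, hm⟩ := CM.of_r hr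
  obtain ⟨W, q, hpb, hq⟩ := exists_eff hm hA hT' hx
  obtain ⟨grpW, hgm⟩ := exists_grp hpb (compat_tr hm hq)
  have hAbW : AgPol.IsAbSch W g := by
    refine hAb T.left T'.left p.left W g ?_
    obtain ⟨l, -, hl⟩ := (GM.bc p.left W).lift (g := 𝟙 _) (by
      rw [Category.id_comp]
      exact hgm)
    obtain ⟨e, -, -⟩ := hl.exists_iso
    exact isAbSch_of_iso e hx.ab
  have i1 := hAbW.proper
  have i2 := hAbW.smooth
  have i4 := hAbW.geomConnected
  have i3 : GeometricallyIntegral W.hom := K814.AbBasic.geometricallyIntegral W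
  obtain ⟨c, hc1, hc2⟩ := exists_cls p.left hgm x.c hx.rig (fun {R} v w hvw => by
    have h1 : (v ≫ x.X.hom) ≫ p.left = (w ≫ x.X.hom) ≫ p.left := by
      rw [Category.assoc, Category.assoc, ← hpb.w, ← Category.assoc, hvw, Category.assoc]
    have h2 : tr m (v ≫ x.X.hom) (w ≫ x.X.hom) h1 v rfl = w := by
      apply hpb.hom_ext
      · rw [hq, hvw]
      · exact tr_hom hm _ _ _ _ _
    have h3 := tr_cls hm (v ≫ x.X.hom) (w ≫ x.X.hom) h1 v rfl
    rw [h2] at h3
    exact h3.symm)
  choose s hs using fun i => exists_sec hm hpb hq i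
  exact ⟨⟨W, grpW, c, s⟩, q, hAbW, hc1, hgm, hc2, hs⟩

/-- **DESC.** -/
theorem main' (hA : Node.AutTriv.{u} g d n) (hAb : AbDesc.{u}) (hLv : LevDesc.{u}) (hPol : PolDesc.{u})
    (hLI : Node.LevIso.{u}) {T T' : Over S} (p : T' ⟶ T) [Surjective p.left] [IsFinite p.left] [Flat p.left]
    [LocallyOfFinitePresentation p.left] (hT : LN S T) (hT' : LN S T') (x : Core T' g) (hx : Core.ok g d n T' x)
    (hr : ∀ (Z : Over S) (a b : Z ⟶ T'), LN S Z → a ≫ p = b ≫ p → Core.r Z (x.pull a) (x.pull b)) :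
    ∃ y : Core T g, Core.ok g d n T y ∧ Core.r T' (y.pull p) x := by
  have hLN : LN S (dbl p) := by
    have h1 : LocallyOfFiniteType (da p).left :=
      inferInstanceAs (LocallyOfFiniteType (pullback.fst p.left p.left))
    exact isLN_of_lft (da p) hT'
  obtain ⟨y, q, hab, hrig, hq⟩ := exists_desc hA hAb p hT' x hx (hr _ _ _ hLN (dab p))
  have hry : Core.r T' (y.pull p) x := r_symm (CM.r hq)
  have hok : Core.ok g d n T' (y.pull p) := ok_of_r hLI (r_symm hry) hx
  have i1 := hab.smooth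
  have i2 := hab.proper
  have i3 := hab.geomConnected
  have hcomm : IsCommMonObj y.X := K814.AbBasic.isCommMonObj y.X
  have hN : IsLocallyNoetherian T.left := hT
  have hN' : IsLocallyNoetherian T'.left := hT'
  exact ⟨y, ⟨hab, hcomm, hrig, hPol T.left T'.left p.left y.X g d hab y.c hrig hok.pol,
    hLv T.left T'.left p.left y.X g n y.σ hok.level⟩, hry⟩

end K540.Ag.FinDesc
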