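import Groth.Agent.AgPol.K540.Rig3
import Groth.Agent.AgPol.K540.LawsMain
import Groth.Agent.AgPol.K540.DescObj
import Groth.Agent.AgPol.K251.FinDesc

/-!
# The stack laws of core families of level `n ≥ 3`
-/

set_option autoImplicit false
set_option linter.dupNamespace false
universe u

open CategoryTheory AlgebraicGeometry

namespace K540.Ag.Rig3

/-- **LAWS**, all levels `n ≥ 3`. -/
theorem coreLaws {g d n : ℕ} (hn : 3 ≤ n) : K117.Ag.Node.CoreLaws.{u} g d n :=
  AgLaws.main (autTriv hn) AgLaws.abLocal AgLaws.levLocal AgLaws.levIso K533.PolLocal.main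

/-- **DESC**, all levels `n ≥ 3`, from `PolDesc`. -/
theorem finDesc {g d n : ℕ} (hn : 3 ≤ n) (hPol : FinDesc.PolDesc.{u}) {S : Scheme.{u}} {T T' : CategoryTheory.Over S}
    (p : T' ⟶ T) [Surjective p.left] [IsFinite p.left] [Flat p.left] [LocallyOfFinitePresentation p.left]
    (hT : K117.Ag.LN S T) (hT' : K117.Ag.LN S T') (x : K117.Ag.Core T' g) (hx : K117.Ag.Core.ok g d n T' x)
    (hr : ∀ (Z : CategoryTheory.Over S) (a b : Z ⟶ T'), K117.Ag.LN S Z → a ≫ p = b ≫ p →
      K117.Ag.Core.r Z (x.pull a) (x.pull b)) :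
    ∃ y : K117.Ag.Core T g, K117.Ag.Core.ok g d n T y ∧ K117.Ag.Core.r T' (y.pull p) x :=
  FinDesc.main' (autTriv hn) (fun T T' p _ _ _ _ A _ g h => K251.FinDesc.abDesc T T' p A g h)
    (fun T T' p _ _ _ _ A _ g n σ h => K251.FinDesc.levDesc T T' p A g n σ h) hPol AgLaws.levIso p hT hT' x hx hr

end K540.Ag.Rig3
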