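import Groth.Agent.AgPol.K540.Fine3Loc
import Groth.Agent.AgPol.K652.FGlue
import Groth.Agent.AgPol.K652.QPMain
import Groth.Agent.AgPol.K691.ZBase
import Groth.Agent.AgPol.K302.Sep
import Groth.Agent.AgPol.K117.NodeNE
import Groth.Agent.AgPol.K117.Main

/-!
# Fine moduli schemes of core families of level `n ≥ 3`

* `fine` : the fine moduli scheme of level `n ≥ 3` over `Spec ℤ`, from the fine moduli schemes of large level;
* `main` : the fine moduli scheme over `Spec ℤ[1/n]`.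
-/

set_option autoImplicit false
set_option linter.dupNamespace false
universe u

open CategoryTheory Limits MonoidalCategory CartesianMonoidalCategory AlgebraicGeometry
open scoped MonObj

namespace K540.Fine3

open K117.Ag K691.CoarseQ K691.CoarseLoc K691.ZBase K691.LevSec

/-- **FINE3.** The fine moduli scheme of core families of level `n ≥ 3`. -/
theorem exists_fine {g d n : ℕ} (hg : 1 ≤ g) (hn : 3 ≤ n) (C : ℕ) (hfine : ∀ N : ℕ, C < N ^ 2 → Fine.{u} g d N) :
    ∃ (M : Over SZ.{u}) (ξ : Core M g), ModFun.IsUnivFamily (LN SZ.{u}) (CoreP SZ.{u} g d n) M ξ ∧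
      LocallyOfFiniteType M.hom ∧ QuasiCompact M.hom ∧ IsSeparated M.hom := by
  obtain ⟨M₂, ξ₂, hu₂, qp₂⟩ := exists_local (l := 2) hg hn (by omega) C hfine
  obtain ⟨M₃, ξ₃, hu₃, qp₃⟩ := exists_local (l := 3) hg hn (by omega) C hfine
  have ft₂ := qp₂.1
  have ft₃ := qp₃.1
  have ln₂ : LN SZ.{u} M₂ := LocallyOfFiniteType.isLocallyNoetherian M₂.hom
  have ln₃ : LN SZ.{u} M₃ := LocallyOfFiniteType.isLocallyNoetherian M₃.hom
  obtain ⟨M, ξ, hln, hu, -, -, hP⟩ := K652.FGlue.core_glue₂ hn (bl 2) (bl 3) (bl_sup (by norm_num)) ln₂ ln₃ hu₂ hu₃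
  have z1 : IsZariskiLocalAtTarget (@LocallyOfFiniteType : MorphismProperty Scheme.{u}) :=
    HasRingHomProperty.instIsZariskiLocalAtTarget (P := @LocallyOfFiniteType)
  have z2 : IsZariskiLocalAtTarget (@QuasiCompact : MorphismProperty Scheme.{u}) :=
    @HasAffineProperty.instIsZariskiLocalAtTarget _ _
      AlgebraicGeometry.instHasAffinePropertyQuasiCompactCompactSpaceCarrierCarrierCommRingCat.{u}
  have hft : LocallyOfFiniteType M.hom := hP (@LocallyOfFiniteType : MorphismProperty Scheme.{u}) ft₂ ft₃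
  have hqc : QuasiCompact M.hom := hP (@QuasiCompact : MorphismProperty Scheme.{u}) qp₂.2.1 qp₃.2.1
  have hN : IsNoetherian M.left := by
    have : IsLocallyNoetherian M.left := hln
    have : CompactSpace M.left := QuasiCompact.compactSpace_of_compactSpace M.hom
    exact { }
  have hL := K540.Ag.Rig3.coreLaws (g := g) (d := d) hn SZ.{u}
  exact ⟨M, ξ, hu, hft, hqc, K117.Ag.Main.isSeparated_of_univ hL (K302.Sep.main g d n) M ξ hN hft hu⟩

/-- The fine moduli scheme of core families of level `n ≥ 3`. -/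
theorem fine {g d n : ℕ} (hg : 1 ≤ g) (hd : 1 ≤ d) (hn : 3 ≤ n) (C : ℕ)
    (hfine : ∀ N : ℕ, C < N ^ 2 → Fine.{u} g d N) : Fine.{u} g d n := by
  obtain ⟨M, ξ, hu, hft, hqc, hs⟩ := exists_fine hg hn C hfine
  have hln : IsLocallyNoetherian M.left := LocallyOfFiniteType.isLocallyNoetherian M.hom
  have hN : IsNoetherian M.left := by
    have : CompactSpace M.left := QuasiCompact.compactSpace_of_compactSpace M.hom
    exact { }
  have hL := K540.Ag.Rig3.coreLaws (g := g) (d := d) hn SZ.{u}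
  refine ⟨M, ξ, hu, ?_, fun Ω _ _ t ht => ?_⟩
  · exact K652.QPMain.main hg (by omega) M ξ hN hft hs hu.1 fun Ω _ _ t a b h =>
      K117.Ag.Main.eq_of_r hL hln hu (K117.Ag.Main.ln_spec t) a b h
  · obtain ⟨x, hx⟩ := K117.NodeNE.main hg hd Ω t ht
    obtain ⟨z, -, hz⟩ := (K533.FamCore.main g d n).exists_core (Over.mk t) x (K117.Ag.Main.ln_spec t) hx
    obtain ⟨k, -⟩ := hu.2 _ z (K117.Ag.Main.ln_spec t) hz
    exact ⟨k⟩

/-- **The fine moduli scheme over `Spec ℤ[1/n]`.** -/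
theorem main {g d n : ℕ} (hg : 1 ≤ g) (hn : 3 ≤ n) (C : ℕ) (hfine : ∀ N : ℕ, C < N ^ 2 → Fine.{u} g d N) :
    ∃ (M : Over (SN.{u} n)) (z : Core M g),
      ModFun.IsUnivFamily (LN (SN.{u} n)) (CoreP (SN.{u} n) g d n) M z ∧ LocallyOfFiniteType M.hom ∧
        QuasiCompact M.hom ∧ IsSeparated M.hom := by
  obtain ⟨M, ξ, hu, hft, hqc, hs⟩ := exists_fine hg hn C hfine
  have hcomm := hu.1.comm
  obtain ⟨f⟩ := exists_hom (isUnit_of_level hg (by omega) hu.1.ab ξ.σ hu.1.level)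
  have hf : f ≫ sN n = M.hom := hom_eqZ _ _
  have h1 : LocallyOfFiniteType (f ≫ sN n) := by rwa [hf]
  have h2 : QuasiCompact (f ≫ sN n) := by rwa [hf]
  have h3 : IsSeparated (f ≫ sN n) := by rwa [hf]
  refine ⟨Over.mk f, cp f ξ, ⟨⟨hu.1.ab, hu.1.comm, hu.1.rig, hu.1.pol, hu.1.level⟩, fun T x hT hx => ?_⟩,
    locallyOfFiniteType_of_comp f (sN n), QuasiCompact.of_comp f (sN n), IsSeparated.of_comp f (sN n)⟩
  obtain ⟨k, hk, hku⟩ := hu.2 (Over.mk (T.hom ≫ sN n)) (cp (T.hom ≫ sN n) x) hT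
    ⟨hx.ab, hx.comm, hx.rig, hx.pol, hx.level⟩
  refine ⟨Over.homMk k.left (hom_eq _ _), hk, fun k' hk' => ?_⟩
  have e := hku (Over.homMk k'.left (hom_eqZ _ _)) hk'
  ext1
  exact congrArg (fun q => q.left) e

end K540.Fine3
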