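import Groth.Agent.AgPol.K540.GlueObj
import Groth.Agent.AgPol.K533.PolClBC
import Groth.Agent.AgPol.K116.ChIso

/-!
# The stack laws of core families

* `pull_ok`, `ok_of_r`;
* `preLaws_*` : the laws without rigidity;
* `AgLaws.main` : `Node.CoreLaws g d n` from `Node.AutTriv`, `Node.AbLocal`, `Node.LevLocal`, `Node.LevIso`, `Node.PolLocal`.
-/

set_option autoImplicit false
set_option linter.dupNamespace false
universe u

open CategoryTheory Limits MonoidalCategory CartesianMonoidalCategory AlgebraicGeometry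
open scoped MonObj

namespace K540.Ag

open K117.Ag Groth.Agent.Grpsch.PicGrp

variable {S : Scheme.{u}} {g d n : ℕ}

/-- Abelian schemes are invariant under isomorphisms. -/
theorem isAbSch_of_iso {T : Scheme.{u}} {A B : Over T} (e : A ≅ B) (h : AgPol.IsAbSch A g) : AgPol.IsAbSch B g := by
  have h1 := h.smooth
  have h2 := h.proper
  have h3 := h.geomConnected
  have hi : IsIso e.inv.left := inferInstanceAs (IsIso ((Over.forget T).map e.inv))
  have he : e.inv.left ≫ A.hom = B.hom := Over.w e.inv
  refine ⟨?_, ?_, ?_, fun s => ?_⟩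
  · rw [← he]
    infer_instance
  · rw [← he]
    infer_instance
  · exact MorphismProperty.of_isPullback (P := @GeometricallyConnected)
      (IsPullback.of_horiz_isIso ⟨show e.inv.left ≫ A.hom = B.hom ≫ 𝟙 T by rw [he, Category.comp_id]⟩) h3
  · rw [← h.fibreDim s]
    refine (TopCat.homeoOfIso (Scheme.forgetToTop.mapIso (asIso (pullback.map B.hom (T.fromSpecResidueField s)
      A.hom (T.fromSpecResidueField s) e.inv.left (𝟙 _) (𝟙 _) (by rw [Category.comp_id, he]) (by simp)))))
      |>.isHomeomorph.topologicalKrullDim_eq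

/-- Base change of admissible core families. -/
theorem pull_ok {T T' : Over S} (k : T' ⟶ T) (x : Core T g) (hx : Core.ok g d n T x) :
    Core.ok g d n T' (x.pull k) where
  ab := K533.PolBC.isAbSch_bc k.left hx.ab
  comm := by
    have := hx.comm
    exact K533.PolBC.isCommMonObj_bc k.left
  rig := rig_of_GM (GM.bc k.left x.X) hx.rig
  pol := K533.PolClBC.isPolCl_bc k.left hx.ab hx.pol
  level := K533.PolBC.isLevelStr_bc k.left hx.level

/-- Admissibility is invariant under isomorphisms. -/
theorem ok_of_r (hL : Node.LevIso.{u}) {T : Over S} {x y : Core T g} (h : Core.r T x y) (hx : Core.ok g d n T x) :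
    Core.ok g d n T y := by
  obtain ⟨m, hm⟩ := (r_iff _ _).1 (r_symm h)
  obtain ⟨e, he, hc, hs⟩ := h
  obtain ⟨e', he', hc', hs'⟩ := r_symm ⟨e, he, hc, hs⟩
  have hab := isAbSch_of_iso e hx.ab
  have i1 := hab.smooth
  have i2 := hab.proper
  have i3 := hab.geomConnected
  refine ⟨hab, K814.AbBasic.isCommMonObj y.X, ?_, ?_, ?_⟩
  · rw [← hm.cls]
    exact rig_of_GM hm.gm hx.rig
  · rw [← hc']
    exact K116.ChIso.isPolCl_of_iso hx.ab e' hx.pol
  · have h1 := hL T.left x.X y.X g n e x.σ hx.level
    have h2 : (fun j => x.σ j ≫ e.hom) = y.σ := funext hs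
    rwa [h2] at h1

/-- **LAWS.** -/
theorem AgLaws.main (hA : Node.AutTriv.{u} g d n) (hAb : Node.AbLocal.{u}) (hLL : Node.LevLocal.{u})
    (hLI : Node.LevIso.{u}) (hPL : Node.PolLocal.{u}) : K117.Ag.Node.CoreLaws.{u} g d n := by
  intro S
  refine ⟨fun T x _ => r_refl x, fun T x y _ _ h => r_symm h, fun T x y z _ _ _ h h' => r_trans h h',
    fun k x _ _ hx => pull_ok k x hx, fun k x y _ _ _ _ h => r_pull k h, fun T x _ _ => r_pull_id x,
    fun k l x _ _ _ _ => r_pull_comp k l x, ?_, ?_⟩
  · intro T x y hT hx hy h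
    exact sep hA (fun k x _ _ hx => pull_ok k x hx) T x y hT hx hy h
  · intro T hT κ U hU x hx hr
    obtain ⟨y, hab, hrig, hy⟩ := exists_glued hA hAb (fun e h => isAbSch_of_iso e h)
      (fun k x _ _ hx => pull_ok k x hx) hT hU hx hr
    refine ⟨y, ?_, hy⟩
    have hoky : ∀ i, Core.ok g d n _ (y.pull (resH T (U i))) := fun i => ok_of_r hLI (r_symm (hy i)) (hx i)
    have i1 := hab.smooth
    have i2 := hab.proper
    have i3 := hab.geomConnected
    have hcomm : IsCommMonObj y.X := K814.AbBasic.isCommMonObj y.X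
    have hN : IsLocallyNoetherian T.left := hT
    exact ⟨hab, hcomm, hrig, hPL T.left y.X g d hab U hU y.c hrig fun i => (hoky i).pol,
      hLL T.left y.X g n U hU y.σ fun i => (hoky i).level⟩

end K540.Ag
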