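import Groth.Agent.AgPol.K540.GM
import Groth.Agent.AbDual.K732.Cov

/-!
# Descent of group structures along a flat covering

`exists_grp` : `q : X' ⟶ W` cartesian over the flat covering `F : T' ⟶ T`, the group structure of `X'` compatible with the
descent datum: `W` is a group scheme over `T` and `q` is multiplicative.
-/

set_option autoImplicit false
set_option linter.dupNamespace false
universe u

open CategoryTheory Limits MonoidalCategory CartesianMonoidalCategory AlgebraicGeometry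
open scoped MonObj

namespace K540.Ag.FinDesc

section cov

variable {T T' : Scheme.{u}} (F : T' ⟶ T) [Flat F] [LocallyOfFinitePresentation F] [Surjective F]

theorem fppf_sheaf (Y : Scheme.{u}) : (Presieve.ofArrows (fun _ : PUnit.{u+1} => T') (fun _ => F)).IsSheafFor (yoneda.obj Y) := by
  let u : (Over.mk F : Over T) ⟶ Over.mk (𝟙 T) := Over.homMk F (Category.comp_id _)
  have h1 : Flat u.left := inferInstanceAs (Flat F)
  have h2 : LocallyOfFinitePresentation u.left := inferInstanceAs (LocallyOfFinitePresentation F)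
  have h3 : Surjective u.left := inferInstanceAs (Surjective F)
  exact (K732.Cov.single u).isSheafFor Y

/-- Flat coverings are epimorphisms. -/
theorem fppf_ext {Y : Scheme.{u}} {a b : T ⟶ Y} (h : F ≫ a = F ≫ b) : a = b := by
  have h2 := (Presieve.isSheafFor_arrows_iff _ _).1 (fppf_sheaf F Y) (fun _ => F ≫ a) (by
    intro i k Z gi gk hg
    change gi ≫ F ≫ a = gk ≫ F ≫ a
    have hg' : gi ≫ F = gk ≫ F := hg
    rw [← Category.assoc, hg', Category.assoc])
  exact h2.unique (fun i => rfl) (fun i => h.symm)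

/-- Morphisms descend along flat coverings. -/
theorem fppf_glue {Y : Scheme.{u}} (h : T' ⟶ Y)
    (compat : ∀ {R : Scheme.{u}} (a b : R ⟶ T'), a ≫ F = b ≫ F → a ≫ h = b ≫ h) : ∃ k : T ⟶ Y, F ≫ k = h := by
  obtain ⟨t, ht, -⟩ := (Presieve.isSheafFor_arrows_iff _ _).1 (fppf_sheaf F Y) (fun _ => h) (by
    intro i k Z gi gk hg
    exact compat gi gk hg)
  exact ⟨t, ht PUnit.unit⟩

end cov

section grp

variable {T T' : Scheme.{u}} {F : T' ⟶ T} {X' : Over T'} [GrpObj X'] {W : Over T} {q : X'.left ⟶ W.left}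

/-- Compatibility of the group structure with the descent datum. -/
def Compat (F : T' ⟶ T) (X' : Over T') [GrpObj X'] {W : Over T} (q : X'.left ⟶ W.left) : Prop :=
  ∀ {R : Scheme.{u}} (x₀ x₁ : R ⟶ T') (_ : x₀ ≫ F = x₁ ≫ F),
    ∃ τ : (Over.mk x₀ ⟶ X') →* (Over.mk x₁ ⟶ X'), ∀ v, (τ v).left ≫ q = v.left ≫ q

/-- Restriction of points. -/
noncomputable def rt (F : T' ⟶ T) (Z : Over T) {R : Scheme.{u}} (a : R ⟶ pullback Z.hom F) :
    Over.mk (a ≫ pullback.snd Z.hom F) ⟶ Over.mk (pullback.snd Z.hom F) := Over.homMk a rfl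

variable (hq : IsPullback q X'.hom W.hom F) (H : Compat F X' q)

include hq H in
theorem exists_tau {Z : Over T} {R : Scheme.{u}} (a b : R ⟶ pullback Z.hom F)
    (hab : a ≫ pullback.fst _ _ = b ≫ pullback.fst _ _) :
    ∃ τ : (Over.mk (a ≫ pullback.snd Z.hom F) ⟶ X') →* (Over.mk (b ≫ pullback.snd Z.hom F) ⟶ X'),
      (∀ v, (τ v).left ≫ q = v.left ≫ q) ∧
      ∀ s : Over.mk (pullback.snd Z.hom F) ⟶ X', (a ≫ s.left ≫ q = b ≫ s.left ≫ q ↔
        τ (rt F Z a ≫ s) = rt F Z b ≫ s) := by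
  have h0 : (a ≫ pullback.snd Z.hom F) ≫ F = (b ≫ pullback.snd Z.hom F) ≫ F := by
    rw [Category.assoc, Category.assoc, ← pullback.condition, ← Category.assoc, hab, Category.assoc]
  obtain ⟨τ, hτ⟩ := H _ _ h0
  have h1 : ∀ (a : R ⟶ pullback Z.hom F) (s : Over.mk (pullback.snd Z.hom F) ⟶ X'),
      (rt F Z a ≫ s).left ≫ q = a ≫ s.left ≫ q := fun a s => by
    rw [Over.comp_left, Category.assoc]
    rfl
  refine ⟨τ, hτ, fun s => ⟨fun h => ?_, fun h => ?_⟩⟩
  · ext1
    apply hq.hom_ext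
    · rw [hτ, h1, h1, h]
    · exact (Over.w (τ _)).trans (Over.w (rt F Z b ≫ s)).symm
  · rw [← h1, ← h1, ← h, hτ]

/-- The group of points compatible with the descent datum. -/
noncomputable def sub (Z : Over T) : Subgroup (Over.mk (pullback.snd Z.hom F) ⟶ X') where
  carrier := {s | ∀ {R : Scheme.{u}} (a b : R ⟶ pullback Z.hom F), a ≫ pullback.fst _ _ = b ≫ pullback.fst _ _ →
    a ≫ s.left ≫ q = b ≫ s.left ≫ q}
  mul_mem' {s t} hs ht R a b hab := by
    obtain ⟨τ, -, hτ⟩ := exists_tau hq H a b hab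
    rw [hτ, MonObj.comp_mul, map_mul, (hτ s).1 (hs a b hab), (hτ t).1 (ht a b hab), ← MonObj.comp_mul]
  one_mem' {R} a b hab := by
    obtain ⟨τ, -, hτ⟩ := exists_tau hq H a b hab
    rw [hτ, MonObj.comp_one, map_one, MonObj.comp_one]
  inv_mem' {s} hs R a b hab := by
    obtain ⟨τ, -, hτ⟩ := exists_tau hq H a b hab
    rw [hτ, GrpObj.comp_inv, map_inv, (hτ s).1 (hs a b hab), ← GrpObj.comp_inv]

/-- The compatible point of a point of `W`. -/
noncomputable def pt0 (Z : Over T) (a : Z ⟶ W) : Over.mk (pullback.snd Z.hom F) ⟶ X' :=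
  Over.homMk (hq.lift (pullback.fst _ _ ≫ a.left) (pullback.snd _ _) (by
    rw [Category.assoc, Over.w a, pullback.condition])) (hq.lift_snd _ _ _)

theorem pt0_q (Z : Over T) (a : Z ⟶ W) : (pt0 hq Z a).left ≫ q = pullback.fst _ _ ≫ a.left := hq.lift_fst _ _ _

theorem pt0_mem (Z : Over T) (a : Z ⟶ W) : pt0 hq Z a ∈ sub hq H Z := by
  intro R b c hbc
  rw [pt0_q, ← Category.assoc, hbc, Category.assoc]

/-- The compatible point of a point of `W`. -/
noncomputable def pt (Z : Over T) (a : Z ⟶ W) : sub hq H Z := ⟨pt0 hq Z a, pt0_mem hq H Z a⟩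

variable [Flat F] [LocallyOfFinitePresentation F] [Surjective F]

theorem pt_injective (Z : Over T) : Function.Injective (pt hq H Z) := by
  intro a b hab
  ext1
  apply fppf_ext (pullback.fst Z.hom F)
  rw [← pt0_q hq, ← pt0_q hq]
  exact congrArg (fun t => t.left ≫ q) (congrArg Subtype.val hab)

theorem pt_surjective (Z : Over T) : Function.Surjective (pt hq H Z) := by
  intro s
  obtain ⟨a, ha⟩ := fppf_glue (pullback.fst Z.hom F) (s.1.left ≫ q) (fun a b hab => s.2 a b hab)
  have haw : a ≫ W.hom = Z.hom := by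
    apply fppf_ext (pullback.fst Z.hom F)
    rw [← Category.assoc, ha, Category.assoc, hq.w, pullback.condition, ← Category.assoc]
    congr 1
    exact Over.w s.1
  refine ⟨Over.homMk a haw, ?_⟩
  apply Subtype.ext
  ext1
  apply hq.hom_ext
  · exact (pt0_q hq Z (Over.homMk a haw)).trans ha
  · exact (Over.w (pt0 hq Z (Over.homMk a haw))).trans (Over.w s.1).symm

/-- Restriction along a morphism. -/
noncomputable def rs (F : T' ⟶ T) {Z Z' : Over T} (f : Z' ⟶ Z) :
    Over.mk (pullback.snd Z'.hom F) ⟶ Over.mk (pullback.snd Z.hom F) :=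
  Over.homMk (pullback.lift (pullback.fst _ _ ≫ f.left) (pullback.snd _ _)
    (by rw [Category.assoc, Over.w, pullback.condition])) (pullback.lift_snd _ _ _)

omit [Flat F] [LocallyOfFinitePresentation F] [Surjective F] in
theorem pt_comp {Z Z' : Over T} (f : Z' ⟶ Z) (a : Z ⟶ W) : pt0 hq Z' (f ≫ a) = rs F f ≫ pt0 hq Z a := by
  ext1
  apply hq.hom_ext
  · rw [pt0_q, Over.comp_left, Over.comp_left, Category.assoc, pt0_q, ← Category.assoc, ← Category.assoc]
    congr 1
    exact (pullback.lift_fst _ _ _).symm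
  · exact (Over.w (pt0 hq Z' (f ≫ a))).trans (Over.w (rs F f ≫ pt0 hq Z a)).symm

/-- The bijection between points and compatible points. -/
noncomputable def eqv (Z : Over T) : (Z ⟶ W) ≃ sub hq H Z :=
  Equiv.ofBijective _ ⟨pt_injective hq H Z, pt_surjective hq H Z⟩

/-- The group of points. -/
@[reducible]
noncomputable def grpZ (Z : Over T) : Group (Z ⟶ W) := (eqv hq H Z).group

theorem pt_mul0 (Z : Over T) (a b : Z ⟶ W) :
    pt0 hq Z ((grpZ hq H Z).mul a b) = pt0 hq Z a * pt0 hq Z b := by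
  have : eqv hq H Z ((grpZ hq H Z).mul a b) = eqv hq H Z a * eqv hq H Z b :=
    (eqv hq H Z).apply_symm_apply _
  exact congrArg Subtype.val this

theorem nat0 {Z Z' : Over T} (f : Z' ⟶ Z) (a b : Z ⟶ W) :
    f ≫ (grpZ hq H Z).mul a b = (grpZ hq H Z').mul (f ≫ a) (f ≫ b) := by
  apply pt_injective hq H
  apply Subtype.ext
  change pt0 hq Z' _ = pt0 hq Z' _
  rw [pt_comp, pt_mul0, pt_mul0, pt_comp, pt_comp, MonObj.comp_mul]

/-- The group structure. -/
@[reducible]
noncomputable def grpW : GrpObj W :=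
  K208.EtGlue.grpOfPts W (grpZ hq H) fun _ _ f x y => nat0 hq H f x y

theorem pt_mul (Z : Over T) (a b : Z ⟶ W) : letI := grpW hq H
    pt0 hq Z (a * b) = pt0 hq Z a * pt0 hq Z b := by
  rw [K208.EtGlue.grpOfPts_mul]
  exact pt_mul0 hq H Z a b

theorem gm_q : letI := grpW hq H; GM F X' W q := by
  let _ := grpW hq H
  refine ⟨hq, fun {Z} b x y hx hy => ?_⟩
  let Z' : Over T := Over.mk (b ≫ F)
  have hx' : (x ≫ q) ≫ W.hom = b ≫ F := by rw [Category.assoc, hq.w, ← Category.assoc, hx]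
  have hy' : (y ≫ q) ≫ W.hom = b ≫ F := by rw [Category.assoc, hq.w, ← Category.assoc, hy]
  let a : Z' ⟶ W := Over.homMk (x ≫ q) hx'
  let c : Z' ⟶ W := Over.homMk (y ≫ q) hy'
  change gm X' b x y hx hy ≫ q = (a * c).left
  let w : Z ⟶ pullback Z'.hom F := pullback.lift (𝟙 Z) b (Category.id_comp _)
  have w1 : w ≫ pullback.fst _ _ = 𝟙 Z := pullback.lift_fst _ _ _
  have w2 : w ≫ pullback.snd _ _ = b := pullback.lift_snd _ _ _
  have h1 : ∀ c : Z' ⟶ W, w ≫ (pt0 hq Z' c).left ≫ q = c.left := fun c => by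
    rw [pt0_q, ← Category.assoc, w1, Category.id_comp]
  have h2 : ∀ (z : Z ⟶ X'.left) (hz : z ≫ X'.hom = b) (hz' : (z ≫ q) ≫ W.hom = b ≫ F),
      w ≫ (pt0 hq Z' (Over.homMk (z ≫ q) hz')).left = z := fun z hz hz' => by
    apply hq.hom_ext
    · rw [Category.assoc, h1]
      rfl
    · rw [Category.assoc, hz]
      refine Eq.trans (congrArg (w ≫ ·) (Over.w (pt0 hq Z' _))) w2
  rw [← h1, pt_mul hq H, mul_left, ← Category.assoc, comp_gm]
  congr 1
  exact gm_congr (X := X') _ _ w2.symm (h2 x hx hx').symm (h2 y hy hy').symm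

end grp

/-- **Descent of group structures.** -/
theorem exists_grp {T T' : Scheme.{u}} {F : T' ⟶ T} [Flat F] [LocallyOfFinitePresentation F] [Surjective F]
    {X' : Over T'} [GrpObj X'] {W : Over T} {q : X'.left ⟶ W.left} (hq : IsPullback q X'.hom W.hom F)
    (H : Compat F X' q) : ∃ _ : GrpObj W, GM F X' W q := ⟨grpW hq H, gm_q hq H⟩

end K540.Ag.FinDesc
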