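import Groth.Agent.AgPol.K540.DescEff
import Groth.Agent.AgPol.K540.DescGrp

/-!
# Descent of sections and rigidified classes along a flat covering
-/

set_option autoImplicit false
set_option linter.dupNamespace false
universe u

open CategoryTheory Limits MonoidalCategory CartesianMonoidalCategory AlgebraicGeometry
open scoped MonObj

namespace K540.Ag.FinDesc

open K117.Ag Groth.Agent.Grpsch.PicGrp Groth.Agent.Fga.RigGrp K732.RigSheaf K732.Cov

variable {S : Scheme.{u}} {T T' : Over S} {g : ℕ}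

section cmp

variable {p : T' ⟶ T} {x : Core T' g} {m : (x.pull (da p)).X.left ⟶ x.X.left}
  (hm : CM (db p).left (x.pull (da p)) x m)

include hm

/-- The group structure is compatible with the descent datum. -/
theorem compat_tr {W : Over T.left} {q : x.X.left ⟶ W.left}
    (hq : ∀ {R : Scheme.{u}} (x₀ x₁ : R ⟶ T'.left) (h : x₀ ≫ p.left = x₁ ≫ p.left) (v : R ⟶ x.X.left)
      (hv : v ≫ x.X.hom = x₀), tr m x₀ x₁ h v hv ≫ q = v ≫ q) : Compat p.left x.X q := by
  intro R x₀ x₁ h
  refine ⟨MonoidHom.mk' (fun v => Over.homMk (tr m x₀ x₁ h v.left (Over.w v)) (tr_hom hm _ _ _ _ _)) ?_,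
    fun v => hq x₀ x₁ h v.left (Over.w v)⟩
  intro v w
  ext1
  exact tr_mul hm x₀ x₁ h v.left w.left (Over.w v) (Over.w w)

/-- The transport of sections. -/
theorem tr_sec {R : Scheme.{u}} (x₀ x₁ : R ⟶ T'.left) (h : x₀ ≫ p.left = x₁ ≫ p.left) (i : Fin (2 * g)) :
    tr m x₀ x₁ h (x₀ ≫ (x.σ i).left) (by
      have e : (x.σ i).left ≫ x.X.hom = 𝟙 _ := Over.w (x.σ i)
      rw [Category.assoc]
      exact (congrArg (x₀ ≫ ·) e).trans (Category.comp_id _)) = x₁ ≫ (x.σ i).left := by
  have e0 : pr p x₀ x₁ h ≫ ((x.pull (da p)).σ i).left ≫ pullback.fst x.X.hom (da p).left = x₀ ≫ (x.σ i).left := by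
    have h1 := (CM.pull (da p) x).sec i
    have h2 := congrArg (pr p x₀ x₁ h ≫ ·) h1
    refine h2.trans ?_
    refine (Category.assoc _ _ _).symm.trans ?_
    exact congrArg (· ≫ (x.σ i).left) (pr_a _ _ _ _)
  have e1 : ((x.pull (da p)).σ i).left ≫ (x.pull (da p)).X.hom = 𝟙 _ := Over.w ((x.pull (da p)).σ i)
  have e2 : lf x (da p) (x₀ ≫ (x.σ i).left) (pr p x₀ x₁ h) (by
      have e : (x.σ i).left ≫ x.X.hom = 𝟙 _ := Over.w (x.σ i)
      rw [Category.assoc, pr_a]
      exact (congrArg (x₀ ≫ ·) e).trans (Category.comp_id _)) = pr p x₀ x₁ h ≫ ((x.pull (da p)).σ i).left := by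
    apply pull_ext
    · rw [lf_fst]
      exact e0.symm.trans (Category.assoc _ _ _).symm
    · rw [lf_hom]
      refine Eq.trans ?_ (Category.assoc _ _ _).symm
      exact ((congrArg (pr p x₀ x₁ h ≫ ·) e1).trans (Category.comp_id _)).symm
  unfold tr
  refine (congrArg (· ≫ m) e2).trans ?_
  refine (Category.assoc _ _ _).trans ((congrArg (pr p x₀ x₁ h ≫ ·) (hm.sec i)).trans ?_)
  refine (Category.assoc _ _ _).symm.trans ?_
  exact congrArg (· ≫ (x.σ i).left) (pr_b _ _ _ _)

/-- The transport of the class. -/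
theorem tr_cls {R : Scheme.{u}} (x₀ x₁ : R ⟶ T'.left) (h : x₀ ≫ p.left = x₁ ≫ p.left) (v : R ⟶ x.X.left)
    (hv : v ≫ x.X.hom = x₀) : pull (tr m x₀ x₁ h v hv) x.c = pull v x.c := by
  unfold tr
  rw [pull_comp, hm.cls]
  refine (pull_comp (lf x (da p) v (pr p x₀ x₁ h) (hv.trans (pr_a _ _ _ _).symm))
    (pullback.fst x.X.hom (da p).left) x.c).symm.trans ?_
  exact congrArg (fun t => pull t x.c) (lf_fst _ _ _ _ _)

end cmp

/-- Descent of sections. -/
theorem exists_sec {p : T' ⟶ T} [Flat p.left] [LocallyOfFinitePresentation p.left] [Surjective p.left]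
    {x : Core T' g} {m : (x.pull (da p)).X.left ⟶ x.X.left} (hm : CM (db p).left (x.pull (da p)) x m)
    {W : Over T.left} {q : x.X.left ⟶ W.left} (hpb : IsPullback q x.X.hom W.hom p.left)
    (hq : ∀ {R : Scheme.{u}} (x₀ x₁ : R ⟶ T'.left) (h : x₀ ≫ p.left = x₁ ≫ p.left) (v : R ⟶ x.X.left)
      (hv : v ≫ x.X.hom = x₀), tr m x₀ x₁ h v hv ≫ q = v ≫ q) (i : Fin (2 * g)) :
    ∃ s : 𝟙_ (Over T.left) ⟶ W, (x.σ i).left ≫ q = p.left ≫ s.left := by
  obtain ⟨s, hs⟩ := fppf_glue p.left ((x.σ i).left ≫ q) (fun {R} a b hab => by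
    rw [← Category.assoc, ← Category.assoc, ← tr_sec hm a b hab i, hq])
  have hw : s ≫ W.hom = 𝟙 T.left := by
    apply fppf_ext p.left
    have e : (x.σ i).left ≫ x.X.hom = 𝟙 _ := Over.w (x.σ i)
    rw [← Category.assoc, hs, Category.assoc, hpb.w, ← Category.assoc]
    exact (congrArg (· ≫ p.left) e).trans ((Category.id_comp _).trans (Category.comp_id _).symm)
  exact ⟨Over.homMk s hw, hs.symm⟩

section ext

variable {T T' : Scheme.{u}} (F : T' ⟶ T) [Flat F] [LocallyOfFinitePresentation F] [Surjective F]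

/-- The covering of the final object. -/
noncomputable def fcov : FCov (Over.mk (𝟙 T)) :=
  ⟨PUnit, fun _ => Over.mk F, fun _ => Over.homMk F (Category.comp_id _),
    fun _ => inferInstanceAs (Flat F),
    fun _ => inferInstanceAs (LocallyOfFinitePresentation F),
    fun t => by
      obtain ⟨y, hy⟩ := F.surjective t
      exact ⟨PUnit.unit, y, hy⟩⟩

variable {A : Over T} [GrpObj A] [IsProper A.hom] [Flat A.hom] [LocallyOfFinitePresentation A.hom]
  [GeometricallyIntegral A.hom]

/-- Rigidified classes are determined after a flat covering of the base. -/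
theorem cls_ext {c d : Pic A.left}
    (h1 : pull (η[A] : 𝟙_ (Over T) ⟶ A).left c = 1) (h2 : pull (η[A] : 𝟙_ (Over T) ⟶ A).left d = 1)
    (h : pull (pullback.fst A.hom F) c = pull (pullback.fst A.hom F) d) : c = d := by
  have key : pull (pullback.fst A.hom (𝟙 T)) c = pull (pullback.fst A.hom (𝟙 T)) d := by
    refine rg_ext (f := A.hom) (σ := (η[A] : 𝟙_ (Over T) ⟶ A).left) (Over.w η[A])
      (K732.CubeSec.bijective_XTproj A.hom) (fcov F) (T := Over.mk (𝟙 T)) ?_ ?_ fun k => ?_
    · rw [mem_Rg, ← pull_comp]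
      exact (congrArg (fun t => pull t c) sec_fst).trans h1
    · rw [mem_Rg, ← pull_comp]
      exact (congrArg (fun t => pull t d) sec_fst).trans h2
    · rw [← pull_comp, ← pull_comp]
      have e := XTmap_fst A.hom ((fcov F).j k)
      exact (congrArg (fun t => pull t c) e).trans (h.trans (congrArg (fun t => pull t d) e).symm)
  have h3 := congrArg (pull (inv (pullback.fst A.hom (𝟙 T)))) key
  rwa [← pull_comp, ← pull_comp, IsIso.inv_hom_id, pull_id, pull_id] at h3

theorem rg_glue' (x : Pic (PicF.XT A.hom (Over.mk F)))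
    (hx : pull (PicF.secT A.hom (η[A] : 𝟙_ (Over T) ⟶ A).left (Over.w η[A]) (Over.mk F)) x = 1)
    (compat : ∀ (W : Over T) (a b : W ⟶ Over.mk F),
      pull (PicF.XTmap A.hom a) x = pull (PicF.XTmap A.hom b) x) :
    ∃ c : Pic (PicF.XT A.hom (Over.mk (𝟙 T))),
      pull (PicF.secT A.hom (η[A] : 𝟙_ (Over T) ⟶ A).left (Over.w η[A]) (Over.mk (𝟙 T))) c = 1 ∧
      pull (PicF.XTmap A.hom (Over.homMk F (Category.comp_id _) : Over.mk F ⟶ Over.mk (𝟙 T))) c = x := by
  obtain ⟨c, h1, h2⟩ := rg_glue (f := A.hom) (σ := (η[A] : 𝟙_ (Over T) ⟶ A).left) (Over.w η[A])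
    (K732.CubeSec.bijective_XTproj A.hom) (fcov F) (T := Over.mk (𝟙 T)) (fun _ => x) (fun _ => hx)
    (fun _ _ W a b _ => compat W a b)
  exact ⟨c, h1, h2 PUnit.unit⟩

end ext

/-- Descent of rigidified classes. -/
theorem exists_cls {T T' : Scheme.{u}} (F : T' ⟶ T) [Flat F] [LocallyOfFinitePresentation F] [Surjective F]
    {A : Over T} [GrpObj A] [IsProper A.hom] [Flat A.hom] [LocallyOfFinitePresentation A.hom]
    [GeometricallyIntegral A.hom] {X : Over T'} [GrpObj X] {q : X.left ⟶ A.left} (hq : GM F X A q) (c : Pic X.left)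
    (hc : pull (η[X] : 𝟙_ (Over T') ⟶ X).left c = 1)
    (compat : ∀ {R : Scheme.{u}} (v w : R ⟶ X.left), v ≫ q = w ≫ q → pull v c = pull w c) :
    ∃ c₀ : Pic A.left, pull (η[A] : 𝟙_ (Over T) ⟶ A).left c₀ = 1 ∧ pull q c₀ = c := by
  let w : pullback A.hom F ⟶ X.left := hq.pb.lift (pullback.fst _ _) (pullback.snd _ _) pullback.condition
  have w1 : w ≫ q = pullback.fst _ _ := hq.pb.lift_fst _ _ _
  have w2 : w ≫ X.hom = pullback.snd _ _ := hq.pb.lift_snd _ _ _
  obtain ⟨c₀, hc₀, hc₁⟩ := rg_glue' F (A := A) (pull w c) (by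
      rw [← pull_comp]
      have e1 : PicF.secT A.hom (η[A] : 𝟙_ (Over T) ⟶ A).left (Over.w η[A]) (Over.mk F) ≫ w =
          (η[X] : 𝟙_ (Over T') ⟶ X).left := by
        apply hq.pb.hom_ext
        · rw [Category.assoc, w1, hq.eta]
          exact secT_fst A.hom _ _ (Over.mk F)
        · rw [Category.assoc, w2]
          exact (secT_XTproj A.hom _ _ (Over.mk F)).trans (Over.w η[X]).symm
      exact (congrArg (fun t => pull t c) e1).trans hc)
    (by
      intro W a b
      rw [← pull_comp, ← pull_comp]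
      apply compat
      rw [Category.assoc, Category.assoc, w1]
      exact (XTmap_fst A.hom a).trans (XTmap_fst A.hom b).symm)
  refine ⟨pull (inv (pullback.fst A.hom (𝟙 T))) c₀, ?_, ?_⟩
  · rw [← pull_comp]
    have e : (η[A] : 𝟙_ (Over T) ⟶ A).left ≫ inv (pullback.fst A.hom (𝟙 T)) =
        PicF.secT A.hom (η[A] : 𝟙_ (Over T) ⟶ A).left (Over.w η[A]) (Over.mk (𝟙 T)) := by
      rw [← cancel_mono (pullback.fst A.hom (𝟙 T)), Category.assoc, IsIso.inv_hom_id, sec_fst]
      exact Category.comp_id _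
    exact (congrArg (fun t => pull t c₀) e).trans hc₀
  · have hw : IsIso w := by
      have : w = (hq.pb.isoPullback).inv := by
        apply hq.pb.hom_ext
        · rw [w1, IsPullback.isoPullback_inv_fst]
        · rw [w2, IsPullback.isoPullback_inv_snd]
      rw [this]
      infer_instance
    have e : w ≫ q ≫ inv (pullback.fst A.hom (𝟙 T)) =
        PicF.XTmap A.hom (Over.homMk F (Category.comp_id _) : Over.mk F ⟶ Over.mk (𝟙 T)) := by
      rw [← cancel_mono (pullback.fst A.hom (𝟙 T)), Category.assoc, Category.assoc, IsIso.inv_hom_id,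
        Category.comp_id, w1]
      exact (XTmap_fst A.hom
        (Over.homMk F (Category.comp_id _) : Over.mk F ⟶ Over.mk (𝟙 T))).symm
    have h2 : pull w (pull (q ≫ inv (pullback.fst A.hom (𝟙 T))) c₀) = pull w c := by
      rw [← pull_comp, e]
      exact hc₁
    have h3 := congrArg (pull (inv w)) h2
    rw [← pull_comp (inv w) w, ← pull_comp (inv w) w, IsIso.inv_hom_id, pull_id, pull_id] at h3
    rw [← pull_comp]
    exact h3

end K540.Ag.FinDesc
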