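import Groth.Agent.AgPol.K540.Laws
import Groth.Prelude.Def_Desc

/-!
# Descent data of core families

`x` a core family over `T'`, `p : T' ⟶ T`, the two pull-backs of `x` to `T' ×_T T'` isomorphic by a cartesian morphism
`m`, admissible core families without automorphisms: `tr` is a descent datum on the total space.
-/

set_option autoImplicit false
set_option linter.dupNamespace false
universe u

open CategoryTheory Limits MonoidalCategory CartesianMonoidalCategory AlgebraicGeometry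
open scoped MonObj

namespace K540.Ag.FinDesc

open K117.Ag Groth.Agent.Grpsch.PicGrp

variable {S : Scheme.{u}} {T T' : Over S} {g d n : ℕ}

/-- The double product. -/
noncomputable def dbl (p : T' ⟶ T) : Over S := Over.mk (pullback.fst p.left p.left ≫ T'.hom)

/-- The first projection. -/
noncomputable def da (p : T' ⟶ T) : dbl p ⟶ T' := Over.homMk (pullback.fst p.left p.left) rfl

/-- The second projection. -/
noncomputable def db (p : T' ⟶ T) : dbl p ⟶ T' := Over.homMk (pullback.snd p.left p.left) (by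
  have h : p.left ≫ T.hom = T'.hom := Over.w p
  have h1 : pullback.snd p.left p.left ≫ T'.hom = pullback.fst p.left p.left ≫ T'.hom := by
    rw [← h, ← Category.assoc, ← pullback.condition, Category.assoc]
  exact h1)

/-- The morphism to the double product. -/
noncomputable def pr (p : T' ⟶ T) {R : Scheme.{u}} (x₀ x₁ : R ⟶ T'.left) (h : x₀ ≫ p.left = x₁ ≫ p.left) :
    R ⟶ (dbl p).left := pullback.lift x₀ x₁ h

section pr

variable (p : T' ⟶ T) {R R' : Scheme.{u}} (x₀ x₁ : R ⟶ T'.left) (h : x₀ ≫ p.left = x₁ ≫ p.left)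

theorem pr_a : pr p x₀ x₁ h ≫ (da p).left = x₀ := pullback.lift_fst _ _ _

theorem pr_b : pr p x₀ x₁ h ≫ (db p).left = x₁ := pullback.lift_snd _ _ _

theorem dbl_ext {a b : R ⟶ (dbl p).left} (h1 : a ≫ (da p).left = b ≫ (da p).left)
    (h2 : a ≫ (db p).left = b ≫ (db p).left) : a = b := pullback.hom_ext h1 h2

theorem dab : da p ≫ p = db p ≫ p := by
  ext1
  exact pullback.condition

theorem comp_pr (j : R' ⟶ R) : j ≫ pr p x₀ x₁ h = pr p (j ≫ x₀) (j ≫ x₁) (by
    rw [Category.assoc, h, Category.assoc]) := by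
  apply dbl_ext
  · rw [Category.assoc, pr_a, pr_a]
  · rw [Category.assoc, pr_b, pr_b]

end pr

/-- The classifying morphism of a pair. -/
noncomputable def dl {p : T' ⟶ T} {W : Over S} (c e : W ⟶ T') (h : c ≫ p = e ≫ p) : W ⟶ dbl p :=
  Over.homMk (pr p c.left e.left (congrArg (fun t => t.left) h)) (by
    have h1 : (dbl p).hom = (da p).left ≫ T'.hom := rfl
    rw [h1, ← Category.assoc, pr_a]
    exact Over.w c)

theorem dl_left {p : T' ⟶ T} {W : Over S} (c e : W ⟶ T') (h : c ≫ p = e ≫ p) :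
    (dl c e h).left = pr p c.left e.left (congrArg (fun t => t.left) h) := rfl

theorem dl_a {p : T' ⟶ T} {W : Over S} (c e : W ⟶ T') (h : c ≫ p = e ≫ p) : dl c e h ≫ da p = c := by
  ext1
  exact pr_a _ _ _ _

theorem dl_b {p : T' ⟶ T} {W : Over S} (c e : W ⟶ T') (h : c ≫ p = e ≫ p) : dl c e h ≫ db p = e := by
  ext1
  exact pr_b _ _ _ _

section lf

variable {W : Over S} (x : Core T' g) (k : W ⟶ T') {R R' : Scheme.{u}}

/-- Morphisms to a base change. -/
noncomputable def lf (v : R ⟶ x.X.left) (q : R ⟶ W.left) (h : v ≫ x.X.hom = q ≫ k.left) : R ⟶ (x.pull k).X.left :=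
  pullback.lift v q h

theorem lf_fst (v : R ⟶ x.X.left) (q : R ⟶ W.left) (h : v ≫ x.X.hom = q ≫ k.left) :
    lf x k v q h ≫ pullback.fst x.X.hom k.left = v := pullback.lift_fst _ _ _

theorem lf_hom (v : R ⟶ x.X.left) (q : R ⟶ W.left) (h : v ≫ x.X.hom = q ≫ k.left) :
    lf x k v q h ≫ (x.pull k).X.hom = q := pullback.lift_snd _ _ _

theorem pull_ext {a b : R ⟶ (x.pull k).X.left} (h1 : a ≫ pullback.fst x.X.hom k.left = b ≫ pullback.fst x.X.hom k.left)
    (h2 : a ≫ (x.pull k).X.hom = b ≫ (x.pull k).X.hom) : a = b := pullback.hom_ext h1 h2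

theorem comp_lf (j : R' ⟶ R) (v : R ⟶ x.X.left) (q : R ⟶ W.left) (h : v ≫ x.X.hom = q ≫ k.left) :
    j ≫ lf x k v q h = lf x k (j ≫ v) (j ≫ q) (by rw [Category.assoc, h, Category.assoc]) := by
  apply pull_ext
  · exact (Category.assoc _ _ _).trans ((congrArg (j ≫ ·) (lf_fst _ _ _ _ _)).trans (lf_fst _ _ _ _ _).symm)
  · exact (Category.assoc _ _ _).trans ((congrArg (j ≫ ·) (lf_hom _ _ _ _ _)).trans (lf_hom _ _ _ _ _).symm)

end lf

section tpl

/-- The triple product. -/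
noncomputable def tpl (p : T' ⟶ T) : Over S := Over.mk (pullback.fst (db p).left (da p).left ≫ (dbl p).hom)

/-- The projections of the triple product to the double product. -/
noncomputable def ta (p : T' ⟶ T) : tpl p ⟶ dbl p := Over.homMk (pullback.fst (db p).left (da p).left) rfl

/-- The projections of the triple product to the double product. -/
noncomputable def tb (p : T' ⟶ T) : tpl p ⟶ dbl p := Over.homMk (pullback.snd (db p).left (da p).left) (by
  have h1 : (db p).left ≫ T'.hom = (dbl p).hom := Over.w (db p)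
  have h2 : (da p).left ≫ T'.hom = (dbl p).hom := Over.w (da p)
  have h3 : pullback.snd (db p).left (da p).left ≫ (dbl p).hom = pullback.fst (db p).left (da p).left ≫ (dbl p).hom := by
    rw [← h2, ← Category.assoc, ← pullback.condition, Category.assoc, h1, h2]
  exact h3)

theorem ta_tb (p : T' ⟶ T) : ta p ≫ db p = tb p ≫ da p := by
  ext1
  exact pullback.condition

/-- The morphism to the triple product. -/
theorem exists_tpl (p : T' ⟶ T) {R : Scheme.{u}} (x₀ x₁ x₂ : R ⟶ T'.left) (h : x₀ ≫ p.left = x₁ ≫ p.left)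
    (h' : x₁ ≫ p.left = x₂ ≫ p.left) : ∃ q : R ⟶ (tpl p).left, q ≫ (ta p ≫ da p).left = x₀ ∧
      q ≫ (ta p ≫ db p).left = x₁ ∧ q ≫ (tb p ≫ db p).left = x₂ := by
  let q : R ⟶ (tpl p).left := pullback.lift (pr p x₀ x₁ h) (pr p x₁ x₂ h') ((pr_b _ _ _ _).trans (pr_a _ _ _ _).symm)
  have h1 : q ≫ (ta p).left = pr p x₀ x₁ h := pullback.lift_fst _ _ _
  have h2 : q ≫ (tb p).left = pr p x₁ x₂ h' := pullback.lift_snd _ _ _
  refine ⟨q, ?_, ?_, ?_⟩
  · rw [Over.comp_left, ← Category.assoc, h1, pr_a]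
  · rw [Over.comp_left, ← Category.assoc, h1, pr_b]
  · rw [Over.comp_left, ← Category.assoc, h2, pr_b]

theorem isLN_of_lft {W W' : Over S} (k : W' ⟶ W) [LocallyOfFiniteType k.left] (h : LN S W) : LN S W' := by
  have : IsLocallyNoetherian W.left := h
  exact LocallyOfFiniteType.isLocallyNoetherian k.left

theorem isLN_tpl {p : T' ⟶ T} [LocallyOfFiniteType p.left] (hT' : LN S T') : LN S (tpl p) := by
  have h1 : LocallyOfFiniteType (da p).left :=
    inferInstanceAs (LocallyOfFiniteType (pullback.fst p.left p.left))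
  have h2 : LocallyOfFiniteType (ta p).left :=
    inferInstanceAs (LocallyOfFiniteType (pullback.fst (db p).left (da p).left))
  exact isLN_of_lft (ta p) (isLN_of_lft (da p) hT')

end tpl

section tr

variable {p : T' ⟶ T} {x : Core T' g} (m : (x.pull (da p)).X.left ⟶ x.X.left)

/-- The transport of points. -/
noncomputable def tr {R : Scheme.{u}} (x₀ x₁ : R ⟶ T'.left) (h : x₀ ≫ p.left = x₁ ≫ p.left) (v : R ⟶ x.X.left)
    (hv : v ≫ x.X.hom = x₀) : R ⟶ x.X.left :=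
  lf x (da p) v (pr p x₀ x₁ h) (hv.trans (pr_a _ _ _ _).symm) ≫ m

theorem tr_congr {R : Scheme.{u}} {x₀ x₁ x₀' x₁' : R ⟶ T'.left} {h : x₀ ≫ p.left = x₁ ≫ p.left} {v v' : R ⟶ x.X.left}
    {hv : v ≫ x.X.hom = x₀} (e0 : x₀ = x₀') (e1 : x₁ = x₁') (ev : v = v') :
    tr m x₀ x₁ h v hv = tr m x₀' x₁' (by rw [← e0, ← e1, h]) v' (by rw [← ev, ← e0, hv]) := by
  subst e0 e1 ev
  rfl

theorem comp_tr {R R' : Scheme.{u}} (j : R' ⟶ R) (x₀ x₁ : R ⟶ T'.left) (h : x₀ ≫ p.left = x₁ ≫ p.left)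
    (v : R ⟶ x.X.left) (hv : v ≫ x.X.hom = x₀) :
    j ≫ tr m x₀ x₁ h v hv = tr m (j ≫ x₀) (j ≫ x₁) (by rw [Category.assoc, h, Category.assoc]) (j ≫ v)
      (by rw [Category.assoc, hv]) := by
  unfold tr
  rw [← Category.assoc, comp_lf]
  congr 1
  apply pull_ext
  · rw [lf_fst, lf_fst]
  · rw [lf_hom, lf_hom, comp_pr]

variable {m} (hm : CM (db p).left (x.pull (da p)) x m)

include hm

theorem tr_hom {R : Scheme.{u}} (x₀ x₁ : R ⟶ T'.left) (h : x₀ ≫ p.left = x₁ ≫ p.left) (v : R ⟶ x.X.left)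
    (hv : v ≫ x.X.hom = x₀) : tr m x₀ x₁ h v hv ≫ x.X.hom = x₁ := by
  unfold tr
  rw [Category.assoc, hm.gm.pb.w, ← Category.assoc, lf_hom, pr_b]

/-- Transport of cartesian morphisms. -/
theorem cm_tr {W : Over S} (c e : W ⟶ T') (h : c ≫ p = e ≫ p) {y : Core W g} {k : y.X.left ⟶ x.X.left}
    (hk : CM c.left y x k) :
    CM e.left y x (tr m (y.X.hom ≫ c.left) (y.X.hom ≫ e.left) (by
      rw [Category.assoc, Category.assoc]
      exact congrArg (fun t => y.X.hom ≫ t.left) h) k hk.gm.pb.w) := by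
  have h1 : (dl c e h).left ≫ (da p).left = c.left := congrArg (fun t => t.left) (dl_a c e h)
  have h2 : (dl c e h).left ≫ (db p).left = e.left := congrArg (fun t => t.left) (dl_b c e h)
  obtain ⟨l, hl1, hl2⟩ := (CM.pull (da p) x).lift (f' := (dl c e h).left) (cast_base hk h1.symm)
  have h3 := cast_base (hl2.comp hm) h2
  convert h3 using 1
  unfold tr
  congr 1
  apply pull_ext
  · rw [lf_fst]
    exact hl1.symm
  · rw [lf_hom]
    refine Eq.trans ?_ hl2.gm.pb.w.symm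
    rw [dl_left, comp_pr]

/-- Multiplicativity of the transport. -/
theorem tr_mul {R : Scheme.{u}} (x₀ x₁ : R ⟶ T'.left) (h : x₀ ≫ p.left = x₁ ≫ p.left) (v w : R ⟶ x.X.left)
    (hv : v ≫ x.X.hom = x₀) (hw : w ≫ x.X.hom = x₀) :
    tr m x₀ x₁ h (gm x.X x₀ v w hv hw) (gm_hom _ _ _ _ _) =
      gm x.X x₁ (tr m x₀ x₁ h v hv) (tr m x₀ x₁ h w hw) (tr_hom hm _ _ _ _ _) (tr_hom hm _ _ _ _ _) := by
  have hq1 : pr p x₀ x₁ h ≫ (da p).left = x₀ := pr_a _ _ _ _
  have hq2 : pr p x₀ x₁ h ≫ (db p).left = x₁ := pr_b _ _ _ _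
  have h1 := hm.gm.mul (pr p x₀ x₁ h) (lf x (da p) v (pr p x₀ x₁ h) (hv.trans hq1.symm))
    (lf x (da p) w (pr p x₀ x₁ h) (hw.trans hq1.symm)) (lf_hom _ _ _ _ _) (lf_hom _ _ _ _ _)
  have h2 := (CM.pull (da p) x).gm.mul (pr p x₀ x₁ h) (lf x (da p) v (pr p x₀ x₁ h) (hv.trans hq1.symm))
    (lf x (da p) w (pr p x₀ x₁ h) (hw.trans hq1.symm)) (lf_hom _ _ _ _ _) (lf_hom _ _ _ _ _)
  have h3 : lf x (da p) (gm x.X x₀ v w hv hw) (pr p x₀ x₁ h) ((gm_hom _ _ _ _ _).trans hq1.symm) =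
      gm (x.pull (da p)).X (pr p x₀ x₁ h) (lf x (da p) v (pr p x₀ x₁ h) (hv.trans hq1.symm))
        (lf x (da p) w (pr p x₀ x₁ h) (hw.trans hq1.symm)) (lf_hom _ _ _ _ _) (lf_hom _ _ _ _ _) := by
    apply pull_ext
    · rw [lf_fst]
      refine Eq.trans ?_ h2.symm
      exact gm_congr _ _ hq1.symm (lf_fst _ _ _ _ _).symm (lf_fst _ _ _ _ _).symm
    · exact (lf_hom _ _ _ _ _).trans (gm_hom _ _ _ _ _).symm
  refine (congrArg (· ≫ m) h3).trans (h1.trans ?_)
  exact gm_congr _ _ hq2 rfl rfl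

variable (hA : Node.AutTriv.{u} g d n) (hT' : LN S T') (hx : Core.ok g d n T' x)

include hA hT' hx in
theorem tr_self {R : Scheme.{u}} (x₀ : R ⟶ T'.left) (v : R ⟶ x.X.left) (hv : v ≫ x.X.hom = x₀) :
    tr m x₀ x₀ rfl v hv = v := by
  have h1 := cm_tr hm (𝟙 T') (𝟙 T') rfl (CM.id x)
  have h2 := cm_uniq hA hT' hx h1 (CM.id x)
  have h3 : v ≫ tr m (x.X.hom ≫ (𝟙 T' : T' ⟶ T').left) (x.X.hom ≫ (𝟙 T' : T' ⟶ T').left) rfl (𝟙 x.X.left) (CM.id x).gm.pb.w = v ≫ 𝟙 _ :=
    congrArg (v ≫ ·) h2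
  refine Eq.trans (Eq.trans ?_ (comp_tr m v _ _ _ _ _).symm) (h3.trans (Category.comp_id v))
  have h4 : v ≫ x.X.hom ≫ (𝟙 T' : T' ⟶ T').left = x₀ := by
    refine Eq.trans ?_ hv
    exact congrArg (v ≫ ·) (Category.comp_id _)
  exact tr_congr m h4.symm h4.symm (Category.comp_id v).symm

include hA hT' hx in
/-- The cocycle condition. -/
theorem tr_comp [LocallyOfFiniteType p.left] {R : Scheme.{u}} (x₀ x₁ x₂ : R ⟶ T'.left)
    (h : x₀ ≫ p.left = x₁ ≫ p.left) (h' : x₁ ≫ p.left = x₂ ≫ p.left) (v : R ⟶ x.X.left) (hv : v ≫ x.X.hom = x₀) :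
    tr m x₁ x₂ h' (tr m x₀ x₁ h v hv) (tr_hom hm _ _ _ _ _) = tr m x₀ x₂ (h.trans h') v hv := by
  obtain ⟨q, hq0, hq1, hq2⟩ := exists_tpl p x₀ x₁ x₂ h h'
  let c0 : tpl p ⟶ T' := ta p ≫ da p
  let c1 : tpl p ⟶ T' := ta p ≫ db p
  let c2 : tpl p ⟶ T' := tb p ≫ db p
  have h01 : c0 ≫ p = c1 ≫ p := by rw [Category.assoc, Category.assoc, dab]
  have h12 : c1 ≫ p = c2 ≫ p := by
    change (ta p ≫ db p) ≫ p = (tb p ≫ db p) ≫ p
    rw [ta_tb, Category.assoc, Category.assoc, dab]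
  have h1 := cm_tr hm c0 c1 h01 (CM.pull c0 x)
  have h2 := cm_tr hm c1 c2 h12 h1
  have h3 := cm_tr hm c0 c2 (h01.trans h12) (CM.pull c0 x)
  have h4 := cm_uniq hA (isLN_tpl hT') (pull_ok c0 x hx) h2 h3
  have h5 := congrArg (lf x c0 v q (hv.trans hq0.symm) ≫ ·) h4
  have e0 : ∀ c : tpl p ⟶ T', lf x c0 v q (hv.trans hq0.symm) ≫ (x.pull c0).X.hom ≫ c.left = q ≫ c.left := fun c => by
    rw [← Category.assoc, lf_hom]
  have h6 : lf x c0 v q (hv.trans hq0.symm) ≫ pullback.fst x.X.hom c0.left = v := lf_fst _ _ _ _ _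
  have h7 := h5
  beta_reduce at h7
  refine Eq.trans (Eq.trans ?_ (comp_tr m _ _ _ _ _ _).symm) (h7.trans ((comp_tr m _ _ _ _ _ _).trans ?_))
  · refine tr_congr m ((e0 c1).trans hq1).symm ((e0 c2).trans hq2).symm ?_
    refine Eq.trans ?_ (comp_tr m _ _ _ _ _ _).symm
    exact tr_congr m ((e0 c0).trans hq0).symm ((e0 c1).trans hq1).symm h6.symm
  · exact tr_congr m ((e0 c0).trans hq0) ((e0 c2).trans hq2) h6

end tr

end K540.Ag.FinDesc
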