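import Groth.Agent.AgPol.K540.DescDD
import Groth.Agent.S7521
import Groth.Agent.AgPol.K533.Amp

/-!
# Effectivity of the descent data of core families
-/

set_option autoImplicit false
set_option linter.dupNamespace false
universe u

open CategoryTheory Limits MonoidalCategory CartesianMonoidalCategory AlgebraicGeometry
open scoped MonObj

namespace K540.Ag.FinDesc

open K117.Ag Groth.Agent.Grpsch.PicGrp

variable {S : Scheme.{u}} {T T' : Over S} {g d n : ℕ}

variable {p : T' ⟶ T} {x : Core T' g} {m : (x.pull (da p)).X.left ⟶ x.X.left}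

/-- The descent datum. -/
noncomputable def dd (hm : CM (db p).left (x.pull (da p)) x m) (hA : Node.AutTriv.{u} g d n) (hT' : LN S T')
    (hx : Core.ok g d n T' x) [LocallyOfFiniteType p.left] : _root_.Desc.SchDD p.left where
  obj := x.X
  φ R x₀ x₁ h :=
    { toFun := fun v => ⟨tr m x₀ x₁ h v.1 v.2, tr_hom hm _ _ _ _ _⟩
      invFun := fun v => ⟨tr m x₁ x₀ h.symm v.1 v.2, tr_hom hm _ _ _ _ _⟩
      left_inv := fun v => Subtype.ext ((tr_comp hm hA hT' hx x₀ x₁ x₀ h h.symm v.1 v.2).trans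
        (tr_self hm hA hT' hx x₀ v.1 v.2))
      right_inv := fun v => Subtype.ext ((tr_comp hm hA hT' hx x₁ x₀ x₁ h.symm h v.1 v.2).trans
        (tr_self hm hA hT' hx x₁ v.1 v.2)) }
  φ_natural R R' j x₀ x₁ h h' v v' hv' := by
    refine Eq.trans (b := tr m (j ≫ x₀) (j ≫ x₁) h' (j ≫ v.1) (hv' ▸ v'.2)) ?_ (comp_tr m j x₀ x₁ h v.1 v.2).symm
    exact tr_congr (hv := v'.2) m rfl rfl hv'
  φ_self R x₀ v := Subtype.ext (tr_self hm hA hT' hx x₀ v.1 v.2)
  φ_comp R x₀ x₁ x₂ h h' v := Subtype.ext (tr_comp hm hA hT' hx x₀ x₁ x₂ h h' v.1 v.2)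

/-- Effectivity. -/
theorem exists_eff (hm : CM (db p).left (x.pull (da p)) x m) (hA : Node.AutTriv.{u} g d n) (hT' : LN S T')
    (hx : Core.ok g d n T' x) [Surjective p.left] [IsFinite p.left] [Flat p.left]
    [LocallyOfFinitePresentation p.left] :
    ∃ (W : Over T.left) (q : x.X.left ⟶ W.left), IsPullback q x.X.hom W.hom p.left ∧
      ∀ {R : Scheme.{u}} (x₀ x₁ : R ⟶ T'.left) (h : x₀ ≫ p.left = x₁ ≫ p.left) (v : R ⟶ x.X.left)
        (hv : v ≫ x.X.hom = x₀), tr m x₀ x₁ h v hv ≫ q = v ≫ q := by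
  have : IsLocallyNoetherian T'.left := hT'
  have := hx.comm
  obtain ⟨L, hL, hLc⟩ := exists_mk x.c
  have hpol := hx.pol
  rw [hLc] at hpol
  have hamp := K533.Amp.main T'.left x.X g d hx.ab L hL hpol
  obtain ⟨W, ⟨e⟩⟩ := Groth.Agent.S7521.result p.left (dd hm hA hT' hx) L hamp
  have h1 : e.hom.hom ≫ e.inv.hom = 𝟙 _ := congrArg (fun t => t.hom) e.hom_inv_id
  have h2 : e.inv.hom ≫ e.hom.hom = 𝟙 _ := congrArg (fun t => t.hom) e.inv_hom_id
  have h3 : e.hom.hom.left ≫ e.inv.hom.left = 𝟙 _ := congrArg (fun t => t.left) h1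
  have h4 : e.inv.hom.left ≫ e.hom.hom.left = 𝟙 _ := congrArg (fun t => t.left) h2
  have hi : IsIso e.inv.hom.left := ⟨e.hom.hom.left, h4, h3⟩
  have h5 : e.inv.hom.left ≫ pullback.fst p.left W.hom = x.X.hom := Over.w e.inv.hom
  refine ⟨W, e.inv.hom.left ≫ pullback.snd p.left W.hom, ?_, fun {R} x₀ x₁ h v hv => ?_⟩
  · have h6 : IsPullback e.inv.hom.left x.X.hom (pullback.fst p.left W.hom) (𝟙 _) :=
      IsPullback.of_horiz_isIso ⟨h5.trans (Category.comp_id _).symm⟩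
    have h7 := h6.paste_horiz (IsPullback.of_hasPullback p.left W.hom).flip
    rwa [Category.id_comp] at h7
  · have h6 := e.inv.comm x₀ x₁ h ⟨v, hv⟩ (e.inv.push ⟨v, hv⟩) rfl
    have h7 := congrArg (· ≫ pullback.snd p.left W.hom) h6
    have h8 : ((((_root_.Desc.toDD p.left).obj W).φ x₀ x₁ h (e.inv.push ⟨v, hv⟩)).1) ≫ pullback.snd p.left W.hom =
        (v ≫ e.inv.hom.left) ≫ pullback.snd p.left W.hom := pullback.lift_snd _ _ _
    have h9 : (((dd hm hA hT' hx).φ x₀ x₁ h ⟨v, hv⟩).1 ≫ e.inv.hom.left) ≫ pullback.snd p.left W.hom =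
      (v ≫ e.inv.hom.left) ≫ pullback.snd p.left W.hom := h7.symm.trans h8
    exact (Category.assoc _ _ _).symm.trans (h9.trans (Category.assoc _ _ _))

end K540.Ag.FinDesc
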