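import Groth.Agent.AgPol.K540.Rig3Laws
import Groth.Agent.AgPol.K251.PolDesc

/-!
# DESC, without hypotheses

Families (abelian scheme, rigidified polarisation class of degree `d ^ 2`, level structure) of level `n ≥ 3` descend
along finite locally free surjective morphisms.
-/

set_option autoImplicit false
set_option backward.isDefEq.respectTransparency false
set_option linter.unusedVariables false
universe u

open CategoryTheory AlgebraicGeometry

namespace K540.FinDesc

/-- **DESC**: descent of families of level `n ≥ 3` along finite locally free surjective morphisms. -/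
theorem main {g d n : ℕ} (hn : 3 ≤ n) {S : Scheme.{u}} {T T' : CategoryTheory.Over S}
    (p : T' ⟶ T) [Surjective p.left] [IsFinite p.left] [Flat p.left] [LocallyOfFinitePresentation p.left]
    (hT : K117.Ag.LN S T) (hT' : K117.Ag.LN S T') (x : K117.Ag.Core T' g) (hx : K117.Ag.Core.ok g d n T' x)
    (hr : ∀ (Z : CategoryTheory.Over S) (a b : Z ⟶ T'), K117.Ag.LN S Z → a ≫ p = b ≫ p →
      K117.Ag.Core.r Z (x.pull a) (x.pull b)) :
    ∃ y : K117.Ag.Core T g, K117.Ag.Core.ok g d n T y ∧ K117.Ag.Core.r T' (y.pull p) x :=
  K540.Ag.Rig3.finDesc hn K251.PolDesc.polDesc p hT hT' x hx hr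

end K540.FinDesc
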