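import Groth.Agent.AgPol.K540.Fine3Sep
import Groth.Agent.AgPol.K691.CoarseFin
import Groth.Agent.S2920
import Groth.Agent.S2909

/-!
# Fine moduli schemes of core families of level `n ≥ 3`, locally on the base

`exists_local` : from the fine moduli scheme of level `n l^k`, the fine moduli scheme of level `n` over `ℤ[1/l]`, as the
quotient by the (free) action of the automorphisms of `(ℤ/n l^k)^(2g)` trivial modulo `n`.
-/

set_option autoImplicit false
set_option linter.dupNamespace false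
universe u

open CategoryTheory Limits MonoidalCategory CartesianMonoidalCategory AlgebraicGeometry
open scoped MonObj

namespace K540.Fine3

open K117.Ag Groth.Agent.Grpsch.PicGrp K540.Ag K691.LevGp K691.LevSec K691.LevelRed K691.CoarseQ K691.CoarseGlue
  K691.LevCore K691.GPres K691.CoarseLoc

variable {S : Scheme.{u}} {g d n q : ℕ}

/-- An automorphism fixing a basis is trivial. -/
theorem eq_one_of_tw {r N : ℕ} [NeZero N] {H : Type*} [CommGroup H] {s : Fin r → H} (hs : IsBas N s) (δ : GLZ r N)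
    (h : ∀ i, tw δ s i = s i) : δ = 1 := by
  have h1 : ∀ i, δ (Pi.single i 1) = Pi.single i 1 := fun i => by
    apply hs.injective
    rw [← tw_eq_hm δ s hs.1 i, hm_single, h]
  have h2 : δ.toAddEquiv.toAddMonoidHom = AddMonoidHom.id _ := hom_ext' h1
  ext v : 1
  exact congrArg (fun f : (Fin r → ZMod N) →+ (Fin r → ZMod N) => f v) h2

section free

variable (hn : 3 ≤ n) (hq : 1 ≤ q) {M : Over S} {ξ : Core M g}
  (hU : ModFun.IsUnivFamily (LN S) (CoreP S g d (n * q)) M ξ) (hM : LN S M)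

include hn in
/-- **The action is free on geometric points.** -/
theorem free (hn1 : 1 ≤ n) (hF : PreLaws (CoreP S g d (n * q)) (LN S)) (K : Type u) [Field K] [IsAlgClosed K]
    (x : Spec (CommRingCat.of K) ⟶ M.left) (δ : LG.{u} g n q)
    (h : x ≫ (actM (lact S g d n q hn1 hq) hF hU hM δ).hom = x) : δ = 1 := by
  have := nz hn1 hq
  let T : Over S := Over.mk (x ≫ M.hom)
  let b : T ⟶ M := Over.homMk x rfl
  have hT : LN S T := inferInstanceAs (IsLocallyNoetherian (Spec (CommRingCat.of K)))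
  have hb : b ≫ fm (lact S g d n q hn1 hq) hU hM δ⁻¹ = b := by
    ext1
    exact h
  have h1 : Core.r T (ξ.pull b) (tws (δ⁻¹ : LG.{u} g n q).down.1 (ξ.pull b)) := by
    have h2 := pull_fm (lact S g d n q hn1 hq) hF hU hM b hT δ⁻¹
    rw [hb] at h2
    exact h2
  have hz : Core.ok g d (n * q) T (ξ.pull b) := hF.pull_ok b ξ hM hT hU.1
  have hcomm := hz.comm
  obtain ⟨e, he, hc, hσ⟩ : ∃ (e : (ξ.pull b).X ≅ (ξ.pull b).X), IsMonHom e.hom ∧
    Groth.Agent.Grpsch.PicGrp.pull e.hom.left (ξ.pull b).c = (ξ.pull b).c ∧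
      ∀ i, (ξ.pull b).σ i ≫ e.hom = tw (δ⁻¹ : LG.{u} g n q).down.1 (ξ.pull b).σ i := h1
  have he1 : e.hom = 𝟙 (ξ.pull b).X := by
    refine Rig3.autTriv hn T (pw q (ξ.pull b)) hT (ok_pw hn1 hq hz) e he hc fun i => ?_
    change ((ξ.pull b).σ i ^ q) ≫ e.hom = (ξ.pull b).σ i ^ q
    rw [MonObj.pow_comp, hσ]
    exact tw_pow_eq _ (δ⁻¹ : LG.{u} g n q).down.2 (ξ.pull b).σ hz.level.1 i
  have hσ' : ∀ i, tw (δ⁻¹ : LG.{u} g n q).down.1 (ξ.pull b).σ i = (ξ.pull b).σ i := fun i => by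
    rw [← hσ i, he1]
    exact Category.comp_id _
  have hB := ((isLevelStr_iff (ξ.pull b).σ).1 hz.level).2 K (𝟙 (Spec (CommRingCat.of K)))
  have h3 := eq_one_of_tw hB (δ⁻¹ : LG.{u} g n q).down.1 fun i => by
    have h4 := map_tw (preHom (ξ.pull b).X (toUnit (Over.mk (𝟙 (Spec (CommRingCat.of K))))))
      (δ⁻¹ : LG.{u} g n q).down.1 (ξ.pull b).σ i
    rw [hσ'] at h4
    exact h4.symm
  have h5 : δ⁻¹ = (1 : LG.{u} g n q) := by
    apply ULift.down_injective
    exact Subtype.ext h3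
  exact inv_eq_one.1 h5

end free

section tors

variable {M M₁ : Over S} {π : M ⟶ M₁} {G : Type u} [Group G] {ρ : G →* Aut M.left}
  (hq : SGA1.IsQuot ρ π.left)
  (hiso : IsIso (Sigma.desc (fun g : G => pullback.lift (𝟙 M.left) (ρ g).hom
    ((Category.id_comp π.left).trans (hq.inv g).symm)) : (∐ fun _ : G => M.left) ⟶ pullback π.left π.left))

include hiso in
/-- Two maps to a torsor with the same image differ locally by the group. -/
theorem exists_near {Z : Scheme.{u}} (a b : Z ⟶ M.left) (h : a ≫ π.left = b ≫ π.left) (z : Z) :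
    ∃ (U : Z.Opens) (δ : G), z ∈ U ∧ U.ι ≫ b = U.ι ≫ a ≫ (ρ δ).hom := by
  let φ : (∐ fun _ : G => M.left) ⟶ pullback π.left π.left :=
    Sigma.desc (fun g : G => pullback.lift (𝟙 M.left) (ρ g).hom ((Category.id_comp π.left).trans (hq.inv g).symm))
  have hφ : IsIso φ := hiso
  let c : Z ⟶ (∐ fun _ : G => M.left) := pullback.lift a b h ≫ inv φ
  obtain ⟨⟨δ, y⟩, hy⟩ := (sigmaMk (fun _ : G => M.left)).surjective (c z)
  rw [sigmaMk_mk] at hy
  have hc : c ≫ φ = pullback.lift a b h := by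
    change (_ ≫ inv φ) ≫ φ = _
    rw [Category.assoc, IsIso.inv_hom_id, Category.comp_id]
  let jj : M.left ⟶ (∐ fun _ : G => M.left) := Sigma.ι (fun _ : G => M.left) δ
  have hj : IsOpenImmersion jj := inferInstance
  let U : Z.Opens := c ⁻¹ᵁ jj.opensRange
  refine ⟨U, δ, ⟨y, hy⟩, ?_⟩
  have hr : Set.range (U.ι ≫ c) ⊆ Set.range jj := by
    rintro _ ⟨w, rfl⟩
    rw [Scheme.Hom.comp_apply]
    have h1 : U.ι w ∈ (U : Set Z) := by
      have h2 : U.ι w ∈ Set.range U.ι := ⟨w, rfl⟩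
      rwa [Scheme.Opens.range_ι] at h2
    exact h1
  let l : U.toScheme ⟶ M.left := IsOpenImmersion.lift jj (U.ι ≫ c) hr
  have hl : l ≫ jj = U.ι ≫ c := IsOpenImmersion.lift_fac _ _ _
  have h1 : l ≫ pullback.lift (𝟙 M.left) (ρ δ).hom ((Category.id_comp π.left).trans (hq.inv δ).symm) =
      U.ι ≫ pullback.lift a b h := by
    have h2 : jj ≫ φ = pullback.lift (𝟙 M.left) (ρ δ).hom ((Category.id_comp π.left).trans (hq.inv δ).symm) :=
      Sigma.ι_desc _ _
    rw [← hc, ← Category.assoc, ← hl, Category.assoc, h2]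
  have e1 : l = U.ι ≫ a := by
    have h2 := congrArg (· ≫ pullback.fst π.left π.left) h1
    simpa only [Category.assoc, pullback.lift_fst, Category.comp_id] using h2
  have e2 : l ≫ (ρ δ).hom = U.ι ≫ b := by
    have h2 := congrArg (· ≫ pullback.snd π.left π.left) h1
    simpa only [Category.assoc, pullback.lift_snd] using h2
  rw [← e2, e1, Category.assoc]

end tors

section pres

variable {M M₁ : Over S} {π : M ⟶ M₁} {ζ : Core M g}

/-- The fine moduli scheme of the problem `F₁` of core families over schemes mapping to `V`, from the quotient `π` of the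
fine moduli scheme with more level structure. -/
theorem isUniv (hn : 3 ≤ n) {V : S.Opens} (hF₁ : PreLaws (onV (CoreP S g d n) V) (LN S))
    (H : Pres (onV (CoreP S g d n) V) (LN S) M M₁ ζ π)
    [Surjective π.left] [IsFinite π.left] [Flat π.left] [LocallyOfFinitePresentation π.left] (hM₁ : LN S M₁)
    (hV : Set.range M₁.hom ⊆ (V : Set S))
    (hcov : ∀ (T : Over S) (x : Core T g), LN S T → (onV (CoreP S g d n) V).ok T x → ∃ (W : Over S) (p : W ⟶ T)
      (b : W ⟶ M), Surjective p.left ∧ Flat p.left ∧ LocallyOfFinitePresentation p.left ∧ LN S W ∧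
        Core.r W (ζ.pull b) (x.pull p))
    (hinv : ∀ (Z : Over S) (a b : Z ⟶ M), LN S Z → a ≫ π = b ≫ π → Core.r Z (ζ.pull a) (ζ.pull b)) :
    ∃ θ : Core M₁ g, ModFun.IsUnivFamily (LN S) (onV (CoreP S g d n) V) M₁ θ := by
  obtain ⟨θ, hθ, hθζ⟩ := K540.FinDesc.main hn π hM₁ H.dom ζ H.ok.1 hinv
  have hθ' : (onV (CoreP S g d n) V).ok M₁ θ := ⟨hθ, hV⟩
  -- the classifying map of the descended family is the identity
  have h1 : (homOf hF₁ H).app M₁ θ hM₁ hθ' = 𝟙 M₁ := by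
    have h2 := rel_homOf hF₁ H θ hM₁ hθ' M π (𝟙 M) H.dom (K540.Ag.r_trans (r_pull_id ζ) (K540.Ag.r_symm hθζ))
    have h3 : Epi π := Groth.Agent.Sga3.H784.FlatDesc.epi_of_cover π
    rw [Category.id_comp] at h2
    rw [← cancel_epi π, ← h2, Category.comp_id]
  refine ⟨θ, hθ', fun T x hT hx => ⟨(homOf hF₁ H).app T x hT hx, ?_, fun f hf => ?_⟩⟩
  · obtain ⟨W, p, b, hs, hf, hfp, hW, hb⟩ := hcov T x hT hx
    have h2 := rel_homOf hF₁ H x hT hx W p b hW hb
    have ok2 : Core.ok g d n T (θ.pull ((homOf hF₁ H).app T x hT hx)) := K540.Ag.pull_ok _ θ hθ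
    refine r_of_cover (Rig3.autTriv hn) (p := p) hW _ x ok2 hx.1 ?_
    refine K540.Ag.r_trans (K540.Ag.r_symm (r_pull_comp _ p θ)) ?_
    rw [← h2]
    refine K540.Ag.r_trans (r_pull_comp π b θ) ?_
    exact K540.Ag.r_trans (K540.Ag.r_pull b hθζ) hb
  · have hf' : Core.r T (θ.pull f) x := hf
    have okf : (onV (CoreP S g d n) V).ok T (θ.pull f) := hF₁.pull_ok f θ hM₁ hT hθ'
    have h2 := (homOf hF₁ H).resp (θ.pull f) x hT okf hx hf'
    have h3 := (homOf hF₁ H).natural f θ hM₁ hT hθ' okf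
    rw [h1, Category.comp_id] at h3
    exact h3.symm.trans h2

end pres

/-- **The fine moduli scheme of core families of level `n ≥ 3` over `ℤ[1/l]`.** -/
theorem exists_local {g d n l : ℕ} (hg : 1 ≤ g) (hn : 3 ≤ n) (hl : 2 ≤ l) (C : ℕ)
    (hfine : ∀ N : ℕ, C < N ^ 2 → Fine.{u} g d N) :
    ∃ (M : Over SZ.{u}) (ξ : Core M g), ModFun.IsUnivFamily (LN SZ.{u}) (onV (CoreP SZ.{u} g d n) (bl l)) M ξ ∧
      RelProj.IsQuasiProjective M.hom := by
  have hn1 : 1 ≤ n := by omega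
  obtain ⟨k, hk, hC⟩ := exists_pow_large C n l hn1 hl
  have hq : 1 ≤ l ^ k := Nat.one_le_pow _ _ (by omega)
  obtain ⟨M, ξ, hU, hqp, -⟩ := hfine (n * l ^ k) hC
  have := nz hn1 hq
  have hft0 := hqp.1
  have hM : LN SZ.{u} M := LocallyOfFiniteType.isLocallyNoetherian M.hom
  have hF : ∀ m : ℕ, PreLaws (CoreP SZ.{u} g d m) (LN SZ.{u}) := fun m => K691.CoarseFin.preLaws SZ.{u} g d m
  have hV1 : ∀ T : Over SZ.{u}, LN SZ.{u} T → Set.range T.hom ⊆ ((bl l : SZ.{u}.Opens) : Set SZ.{u}) →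
      IsUnit ((l ^ k : ℕ) : Γ(T.left, ⊤)) := by
    intro T _ h
    rw [Nat.cast_pow]
    exact ((range_iff T l).1 h).pow k
  have hV2 : ∀ T : Over SZ.{u}, LN SZ.{u} T → IsUnit ((n * l ^ k : ℕ) : Γ(T.left, ⊤)) →
      Set.range T.hom ⊆ ((bl l : SZ.{u}.Opens) : Set SZ.{u}) := by
    intro T _ h
    rw [Nat.cast_mul, Nat.cast_pow] at h
    exact (range_iff T l).2 ((isUnit_pow_iff (by omega)).1 (isUnit_of_mul_isUnit_right h))
  let A := lact SZ.{u} g d n (l ^ k) hn1 hq
  let R := lred hg hn1 hq (hF n) (hF _) K382.LevCover.main.{u} (bl l) hV1 hV2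
  obtain ⟨Y, q, h, hqh, hquot, hYqp⟩ := Groth.Agent.S13180.result M.hom (actM A (hF _) hU hM)
    (actM_w A (hF _) hU hM) hqp
  let M₁ : Over SZ.{u} := Over.mk h
  let π : M ⟶ M₁ := Over.homMk q hqh
  have hft1 : LocallyOfFiniteType h := hYqp.1
  have hY : IsLocallyNoetherian Y := LocallyOfFiniteType.isLocallyNoetherian h
  have hM₁ : LN SZ.{u} M₁ := hY
  have hfin : IsFinite q :=
    (Groth.Agent.S2909.result (actM A (hF _) hU hM) q hquot M.hom h hqh (actM_w A (hF _) hU hM)).2.2.1 hft0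
  have hft : LocallyOfFiniteType π.left := by
    have : LocallyOfFiniteType q := inferInstance
    exact this
  have hF₁ := preLaws_onV (hF n) (bl l)
  have G := R.gpres (hF _) hF₁ (fun j hj hT => ln_open j hj hT) hU hM π hquot hft
  have Pr := G.pres hF₁ (fun j hj hT => ln_open j hj hT)
  obtain ⟨hiso, hflat, hsurj⟩ := Groth.Agent.S2920.result (actM A (hF _) hU hM) q hquot
    (fun K _ _ x δ hx => free hn hq hU hM hn1 (hF _) K x δ hx)
  have i1 : Surjective π.left := hsurj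
  have i2 : IsFinite π.left := hfin
  have i3 : Flat π.left := hflat
  have i4 : LocallyOfFinitePresentation π.left := by
    have : IsLocallyNoetherian M₁.left := hM₁
    exact LocallyOfFinitePresentation.iff_locallyOfFiniteType.2 hft
  have hr : Set.range M₁.hom ⊆ ((bl l : SZ.{u}.Opens) : Set SZ.{u}) := by
    have hMr : Set.range M.hom ⊆ ((bl l : SZ.{u}.Opens) : Set SZ.{u}) := G.ok.2
    rintro _ ⟨y, rfl⟩
    obtain ⟨x, rfl⟩ := hsurj.surj y
    refine hMr ⟨x, ?_⟩
    change M.hom x = h (q x)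
    rw [← Scheme.Hom.comp_apply, hqh]
  obtain ⟨θ, hθ⟩ := isUniv hn hF₁ Pr hM₁ hr (fun T x hT hx => by
    have hT' : IsLocallyNoetherian T.left := hT
    obtain ⟨W, p, _, _, _, ρ, hf, he, hs, -, τ, hτ, hτq⟩ := K382.LevCover.main T g d n (l ^ k) hg hn1 hq x hx.1
      (isUnit_mul hg hn1 (bl l) hV1 hT hx.1 hx.2)
    have hp := isCov_of_finite p hT hf he hs
    have hy : Core.ok g d (n * l ^ k) W (setσ (x.pull p) τ) := ok_setσ (K540.Ag.pull_ok p x hx.1) hτ
    obtain ⟨b, hb, -⟩ := hU.2 W _ hp.dom hy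
    refine ⟨W, p, b, hs, inferInstance, inferInstance, hp.dom, ?_⟩
    refine K540.Ag.r_trans (pull_pw (l ^ k) b ξ) ?_
    exact K540.Ag.r_trans (r_pw (l ^ k) hb) (r_setσ_self (x.pull p) hτq)) (fun Z a b hZ hab => by
    have oka : Core.ok g d n Z (((pw (l ^ k) ξ)).pull a) := K540.Ag.pull_ok a _ G.ok.1
    have okb : Core.ok g d n Z (((pw (l ^ k) ξ)).pull b) := K540.Ag.pull_ok b _ G.ok.1
    refine (Rig3.coreLaws hn SZ.{u}).sep Z _ _ hZ oka okb fun z => ?_
    obtain ⟨U, δ, hz, e⟩ := exists_near hquot hiso a.left b.left (congrArg (fun t => t.left) hab) z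
    refine ⟨U, hz, ?_⟩
    have e1 : resH Z U ≫ b = (resH Z U ≫ a) ≫ Over.homMk (actM A (hF _) hU hM δ).hom (G.act δ) := by
      ext1
      exact e.trans (Category.assoc _ _ _).symm
    refine K540.Ag.r_trans (K540.Ag.r_symm (r_pull_comp a (resH Z U) _)) ?_
    refine K540.Ag.r_trans ?_ (r_pull_comp b (resH Z U) _)
    rw [e1]
    refine K540.Ag.r_trans ?_ (K540.Ag.r_symm (r_pull_comp _ (resH Z U ≫ a) _))
    exact K540.Ag.r_pull _ (K540.Ag.r_symm (G.inv δ)))
  exact ⟨M₁, θ, hθ, hYqp⟩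

end K540.Fine3
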