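import Groth.Agent.AgPol.K540.FinDescMain

/-!
# Isomorphisms of core families descend along flat coverings

`r_of_cover` : core families which become isomorphic after a covering flat and locally of finite presentation are
isomorphic, when admissible core families have no automorphisms.
-/

set_option autoImplicit false
set_option linter.dupNamespace false
universe u

open CategoryTheory Limits MonoidalCategory CartesianMonoidalCategory AlgebraicGeometry
open scoped MonObj

namespace K540.Fine3

open K117.Ag Groth.Agent.Grpsch.PicGrp K540.Ag K540.Ag.FinDesc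

variable {S : Scheme.{u}} {g d n : ℕ} {T T' : Over S}

/-- The projection of a base change. -/
noncomputable def fs (k : T' ⟶ T) (x : Core T g) : (x.pull k).X.left ⟶ x.X.left := pullback.fst x.X.hom k.left

theorem fs_w (k : T' ⟶ T) (x : Core T g) : fs k x ≫ x.X.hom = (x.pull k).X.hom ≫ k.left := pullback.condition

theorem cm_fs (k : T' ⟶ T) (x : Core T g) : CM k.left (x.pull k) x (fs k x) := CM.pull k x

theorem lf_fs (x : Core T g) (k : T' ⟶ T) {R : Scheme.{u}} (v : R ⟶ x.X.left) (q : R ⟶ T'.left)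
    (h : v ≫ x.X.hom = q ≫ k.left) : lf x k v q h ≫ fs k x = v := pullback.lift_fst _ _ _

instance (k : T' ⟶ T) (x : Core T g) [Surjective k.left] : Surjective (fs k x) :=
  inferInstanceAs (Surjective (pullback.fst x.X.hom k.left))

instance (k : T' ⟶ T) (x : Core T g) [Flat k.left] : Flat (fs k x) :=
  inferInstanceAs (Flat (pullback.fst x.X.hom k.left))

instance (k : T' ⟶ T) (x : Core T g) [LocallyOfFinitePresentation k.left] : LocallyOfFinitePresentation (fs k x) :=
  inferInstanceAs (LocallyOfFinitePresentation (pullback.fst x.X.hom k.left))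

/-- A cartesian morphism to a family is compatible with the projections of the double product. -/
theorem compat_of_cm (hA : Node.AutTriv.{u} g d n) {p : T' ⟶ T} [LocallyOfFiniteType p.left] (hT' : LN S T')
    (x y : Core T g) (hx : Core.ok g d n T x) {m : (x.pull p).X.left ⟶ y.X.left} (hm : CM p.left (x.pull p) y m)
    {R : Scheme.{u}} (a b : R ⟶ (x.pull p).X.left)
    (h : a ≫ fs p x = b ≫ fs p x) : a ≫ m = b ≫ m := by
  have hD : LN S (dbl p) := by
    have h1 : LocallyOfFiniteType (da p).left :=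
      inferInstanceAs (LocallyOfFiniteType (pullback.fst p.left p.left))
    exact isLN_of_lft (da p) hT'
  obtain ⟨la, ha1, ha2⟩ := (cm_fs p x).lift (f' := (da p).left) (cm_fs (da p ≫ p) x)
  obtain ⟨lb, hb1, hb2⟩ := (cm_fs p x).lift (f' := (db p).left)
    (cast_base (cm_fs (da p ≫ p) x) (congrArg (fun t => t.left) (dab p)))
  have e1 : la ≫ m = lb ≫ m := by
    refine cm_uniq hA hD (pull_ok (da p ≫ p) x hx) (ha2.comp hm) (cast_base (hb2.comp hm) ?_)
    exact (congrArg (fun t => t.left) (dab p)).symm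
  have hab : (a ≫ (x.pull p).X.hom) ≫ p.left = (b ≫ (x.pull p).X.hom) ≫ p.left := by
    rw [Category.assoc, Category.assoc, ← fs_w, ← Category.assoc, h, Category.assoc]
  have ht : (a ≫ fs p x) ≫ x.X.hom =
      pr p (a ≫ (x.pull p).X.hom) (b ≫ (x.pull p).X.hom) hab ≫ (da p ≫ p).left := by
    rw [Over.comp_left, ← Category.assoc, pr_a, Category.assoc, Category.assoc, fs_w]
  let t : R ⟶ (x.pull (da p ≫ p)).X.left := lf x (da p ≫ p) (a ≫ fs p x)
    (pr p (a ≫ (x.pull p).X.hom) (b ≫ (x.pull p).X.hom) hab) ht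
  have t1 : t ≫ fs (da p ≫ p) x = a ≫ fs p x := lf_fs _ _ _ _ _
  have t2 : t ≫ (x.pull (da p ≫ p)).X.hom = pr p (a ≫ (x.pull p).X.hom) (b ≫ (x.pull p).X.hom) hab :=
    lf_hom _ _ _ _ _
  have ta : t ≫ la = a := by
    apply (cm_fs p x).hom_ext
    · rw [Category.assoc, ha1, t1]
    · rw [Category.assoc, ha2.gm.pb.w, ← Category.assoc, t2, pr_a]
  have tb : t ≫ lb = b := by
    apply (cm_fs p x).hom_ext
    · rw [Category.assoc, hb1, t1, h]
    · rw [Category.assoc, hb2.gm.pb.w, ← Category.assoc, t2, pr_b]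
  rw [← ta, ← tb, Category.assoc, Category.assoc, e1]

/-- Descent of a cartesian morphism to a morphism of the underlying schemes. -/
theorem exists_desc_cm (hA : Node.AutTriv.{u} g d n) {p : T' ⟶ T} [Surjective p.left] [Flat p.left]
    [LocallyOfFinitePresentation p.left] (hT' : LN S T')
    (x y : Core T g) (hx : Core.ok g d n T x) {m : (x.pull p).X.left ⟶ y.X.left} (hm : CM p.left (x.pull p) y m) :
    ∃ M : x.X ⟶ y.X, fs p x ≫ M.left = m := by
  obtain ⟨M, hM⟩ := fppf_glue (fs p x) m
    (fun a b hab => compat_of_cm hA hT' x y hx hm a b hab)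
  refine ⟨Over.homMk M ?_, hM⟩
  refine fppf_ext (fs p x) ?_
  rw [← Category.assoc, hM, hm.gm.pb.w, fs_w]

/-- **Isomorphisms of core families descend.** -/
theorem r_of_cover (hA : Node.AutTriv.{u} g d n) {p : T' ⟶ T} [Surjective p.left] [Flat p.left]
    [LocallyOfFinitePresentation p.left] (hT' : LN S T') (x y : Core T g) (hx : Core.ok g d n T x)
    (hy : Core.ok g d n T y) (h : Core.r T' (x.pull p) (y.pull p)) : Core.r T x y := by
  obtain ⟨m, hm⟩ := CM.of_r h
  obtain ⟨m', hm'⟩ := CM.of_r (r_symm h)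
  obtain ⟨M, hM⟩ := exists_desc_cm hA hT' x y hx hm
  obtain ⟨N, hN⟩ := exists_desc_cm hA hT' y x hy hm'
  -- the two morphisms are inverse to each other
  have inv : ∀ (x y : Core T g) (_ : Core.ok g d n T x) (m : (x.pull p).X.left ⟶ y.X.left)
      (m' : (y.pull p).X.left ⟶ x.X.left) (_ : CM p.left (x.pull p) y m) (_ : CM p.left (y.pull p) x m')
      (M : x.X ⟶ y.X) (N : y.X ⟶ x.X), fs p x ≫ M.left = m →
      fs p y ≫ N.left = m' → M ≫ N = 𝟙 x.X := by
    intro x y hx m m' hm hm' M N hM hN
    obtain ⟨l, hl1, hl2⟩ := (cm_fs p y).lift (f' := 𝟙 T'.left) (cast_base hm (Category.id_comp _).symm)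
    have e1 : l ≫ m' = fs p x :=
      cm_uniq hA hT' (pull_ok p x hx) (cast_base (hl2.comp hm') (Category.id_comp _)) (cm_fs p x)
    ext1
    refine fppf_ext (fs p x) ?_
    rw [Over.comp_left, ← Category.assoc, hM, ← hl1, Category.assoc, hN, e1]
    exact (Category.comp_id _).symm
  let e : x.X ≅ y.X := ⟨M, N, inv x y hx m m' hm hm' M N hM hN, inv y x hy m' m hm' hm N M hN hM⟩
  have hmul : ∀ (W : Over T.left) (a b : W ⟶ x.X), (a * b) ≫ M = (a ≫ M) * (b ≫ M) := by
    intro W a b
    ext1
    refine fppf_ext (pullback.fst W.hom p.left) ?_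
    have ha : (pullback.fst W.hom p.left ≫ a.left) ≫ x.X.hom = pullback.snd W.hom p.left ≫ p.left := by
      rw [Category.assoc, Over.w, pullback.condition]
    have hb : (pullback.fst W.hom p.left ≫ b.left) ≫ x.X.hom = pullback.snd W.hom p.left ≫ p.left := by
      rw [Category.assoc, Over.w, pullback.condition]
    have e1 := (cm_fs p x).gm.mul (pullback.snd W.hom p.left)
      (lf x p _ _ ha) (lf x p _ _ hb) (lf_hom _ _ _ _ _) (lf_hom _ _ _ _ _)
    have e2 := hm.gm.mul (pullback.snd W.hom p.left)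
      (lf x p _ _ ha) (lf x p _ _ hb) (lf_hom _ _ _ _ _) (lf_hom _ _ _ _ _)
    have e3 : pullback.fst W.hom p.left ≫ (a * b).left =
        gm (x.pull p).X (pullback.snd W.hom p.left) (lf x p _ _ ha) (lf x p _ _ hb) (lf_hom _ _ _ _ _)
          (lf_hom _ _ _ _ _) ≫ fs p x := by
      rw [e1, mul_left, comp_gm]
      exact gm_congr (X := x.X) _ _ pullback.condition (lf_fs _ _ _ _ _).symm (lf_fs _ _ _ _ _).symm
    rw [Over.comp_left, ← Category.assoc, e3, Category.assoc, hM, e2, mul_left, comp_gm]
    refine gm_congr (X := y.X) _ _ pullback.condition.symm ?_ ?_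
    · rw [← hM, ← Category.assoc, lf_fs, Over.comp_left, Category.assoc]
    · rw [← hM, ← Category.assoc, lf_fs, Over.comp_left, Category.assoc]
  have hmon : IsMonHom e.hom := K732.Bidual.isMonHom_of_mul M hmul
  refine ⟨e, hmon, ?_, fun i => ?_⟩
  · have i1 := hx.ab.proper
    have i2 := hx.ab.smooth
    have i4 := hx.ab.geomConnected
    have i3 : GeometricallyIntegral x.X.hom := K814.AbBasic.geometricallyIntegral x.X
    refine cls_ext p.left (A := x.X) ?_ hx.rig ?_
    · rw [← pull_comp, ← Over.comp_left, IsMonHom.one_hom]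
      exact hy.rig
    · rw [← pull_comp]
      exact (congrArg (fun t => pull t y.c) hM).trans hm.cls
  · ext1
    refine fppf_ext p.left ?_
    have h1 := (cm_fs p x).sec i
    have h2 := hm.sec i
    rw [Over.comp_left, ← Category.assoc]
    refine (congrArg (· ≫ M.left) h1.symm).trans ?_
    exact (Category.assoc _ _ _).trans ((congrArg (_ ≫ ·) hM).trans h2)

end K540.Fine3
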