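import Groth.Agent.AbDual.K732.BC
import Groth.Agent.RedSub.K208.EtGlueGrp

/-!
# Cartesian multiplicative morphisms of group schemes

`gm X q x y` : the product of two points of the `T`-group scheme `X` over `q : Z ⟶ T`, given as morphisms of schemes.

`GM f X' X m` : `m : X'.left ⟶ X.left` is cartesian over `f : T' ⟶ T` and multiplicative on points.

* `GM.pts` : points of `X'` over `q` = points of `X` over `q ≫ f`, as groups;
* `GM.bc`, `GM.comp`, `GM.lift`, `GM.ofIso`, `GM.exists_iso`.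
-/

set_option autoImplicit false
set_option linter.dupNamespace false
universe u

open CategoryTheory Limits MonoidalCategory CartesianMonoidalCategory AlgebraicGeometry
open scoped MonObj

namespace K540.Ag

section gm

variable {T : Scheme.{u}} (X : Over T) [GrpObj X] {Z Z' : Scheme.{u}}

/-- The product of two points. -/
noncomputable def gm (q : Z ⟶ T) (x y : Z ⟶ X.left) (hx : x ≫ X.hom = q) (hy : y ≫ X.hom = q) : Z ⟶ X.left :=
  ((Over.homMk x hx : Over.mk q ⟶ X) * Over.homMk y hy).left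

variable {X}

theorem gm_hom (q : Z ⟶ T) (x y : Z ⟶ X.left) (hx : x ≫ X.hom = q) (hy : y ≫ X.hom = q) :
    gm X q x y hx hy ≫ X.hom = q := Over.w ((Over.homMk x hx : Over.mk q ⟶ X) * Over.homMk y hy)

theorem gm_congr {q q' : Z ⟶ T} {x x' y y' : Z ⟶ X.left} (hx : x ≫ X.hom = q) (hy : y ≫ X.hom = q)
    (h1 : q = q') (h2 : x = x') (h3 : y = y') : gm X q x y hx hy =
      gm X q' x' y' (by rw [← h2, hx, h1]) (by rw [← h3, hy, h1]) := by
  subst h1 h2 h3
  rfl

theorem comp_gm (h : Z' ⟶ Z) (q : Z ⟶ T) (x y : Z ⟶ X.left) (hx : x ≫ X.hom = q) (hy : y ≫ X.hom = q) :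
    h ≫ gm X q x y hx hy = gm X (h ≫ q) (h ≫ x) (h ≫ y) (by rw [Category.assoc, hx])
      (by rw [Category.assoc, hy]) := by
  let j : Over.mk (h ≫ q) ⟶ Over.mk q := Over.homMk h rfl
  have e := MonObj.comp_mul j (Over.homMk x hx : Over.mk q ⟶ X) (Over.homMk y hy)
  exact congrArg CommaMorphism.left e

theorem mul_left {W : Over T} (a b : W ⟶ X) : (a * b).left = gm X W.hom a.left b.left (Over.w a) (Over.w b) := rfl

end gm

section cart

variable {T'' T' T : Scheme.{u}}

/-- `m` is cartesian over `f` and multiplicative on points. -/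
structure GM (f : T' ⟶ T) (X' : Over T') (X : Over T) [GrpObj X'] [GrpObj X] (m : X'.left ⟶ X.left) : Prop where
  pb : IsPullback m X'.hom X.hom f
  mul : ∀ {Z : Scheme.{u}} (q : Z ⟶ T') (x y : Z ⟶ X'.left) (hx : x ≫ X'.hom = q) (hy : y ≫ X'.hom = q),
    gm X' q x y hx hy ≫ m = gm X (q ≫ f) (x ≫ m) (y ≫ m) (by rw [Category.assoc, pb.w, ← Category.assoc, hx])
      (by rw [Category.assoc, pb.w, ← Category.assoc, hy])

namespace GM

variable {f : T' ⟶ T} {X' : Over T'} {X : Over T} [GrpObj X'] [GrpObj X] {m : X'.left ⟶ X.left}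

/-- Points. -/
noncomputable def pts (h : GM f X' X m) {Z : Scheme.{u}} (q : Z ⟶ T') :
    (Over.mk q ⟶ X') ≃* (Over.mk (q ≫ f) ⟶ X) where
  toFun a := Over.homMk (a.left ≫ m) (by
    have h1 : a.left ≫ X'.hom = q := Over.w a
    rw [Category.assoc, h.pb.w, ← Category.assoc, h1]
    rfl)
  invFun b := Over.homMk (h.pb.lift b.left q (Over.w b)) (h.pb.lift_snd _ _ _)
  left_inv a := by
    ext1
    apply h.pb.hom_ext
    · exact h.pb.lift_fst _ _ _
    · exact (h.pb.lift_snd _ _ _).trans (Over.w a).symm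
  right_inv b := by
    ext1
    exact h.pb.lift_fst _ _ _
  map_mul' a b := by
    ext1
    exact h.mul q a.left b.left (Over.w a) (Over.w b)

theorem pts_left (h : GM f X' X m) {Z : Scheme.{u}} (q : Z ⟶ T') (a : Over.mk q ⟶ X') :
    (h.pts q a).left = a.left ≫ m := rfl

theorem one (h : GM f X' X m) {Z : Scheme.{u}} (q : Z ⟶ T') :
    (1 : Over.mk q ⟶ X').left ≫ m = (1 : Over.mk (q ≫ f) ⟶ X).left := by
  rw [← pts_left h, map_one]

/-- The unit sections. -/
theorem eta (h : GM f X' X m) : (η[X'] : 𝟙_ (Over T') ⟶ X').left ≫ m = f ≫ (η[X] : 𝟙_ (Over T) ⟶ X).left := by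
  have h1 := one h (𝟙 T')
  have e1 : (1 : Over.mk (𝟙 T') ⟶ X').left = (η[X'] : 𝟙_ (Over T') ⟶ X').left := by
    rw [Hom.one_def, Over.comp_left]
    have : (toUnit (Over.mk (𝟙 T'))).left = 𝟙 T' := by
      have := Over.w (toUnit (Over.mk (𝟙 T')))
      exact (Category.comp_id _).symm.trans this
    rw [this]
    exact Category.id_comp _
  have e2 : (1 : Over.mk (𝟙 T' ≫ f) ⟶ X).left = f ≫ (η[X] : 𝟙_ (Over T) ⟶ X).left := by
    rw [Hom.one_def, Over.comp_left]
    have : (toUnit (Over.mk (𝟙 T' ≫ f))).left = f := by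
      have := Over.w (toUnit (Over.mk (𝟙 T' ≫ f)))
      exact (Category.comp_id _).symm.trans (this.trans (Category.id_comp _))
    rw [this]
  rw [← e1, h1, e2]

/-- Base change. -/
theorem bc (f : T' ⟶ T) (X : Over T) [GrpObj X] : GM f (Red.bc f X) X (pullback.fst X.hom f) := by
  refine ⟨IsPullback.of_hasPullback X.hom f, fun {Z} q x y hx hy => ?_⟩
  obtain ⟨a, ha⟩ := K732.BC.exists_up (k := f) (A := X) (Over.homMk x hx : Over.mk q ⟶ Red.bc f X)
  obtain ⟨b, hb⟩ := K732.BC.exists_up (k := f) (A := X) (Over.homMk y hy : Over.mk q ⟶ Red.bc f X)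
  have ha' : x ≫ pullback.fst X.hom f = a.left := by
    rw [← K732.BC.up_left_fst a, ha]
    rfl
  have hb' : y ≫ pullback.fst X.hom f = b.left := by
    rw [← K732.BC.up_left_fst b, hb]
    rfl
  have h1 : gm (Red.bc f X) q x y hx hy ≫ pullback.fst X.hom f = (a * b).left := by
    rw [← K732.BC.up_left_fst (a * b), K732.BC.up_mul, ha, hb]
    rfl
  rw [h1, mul_left]
  exact (gm_congr _ _ rfl ha'.symm hb'.symm)

/-- Composition. -/
theorem comp {g : T'' ⟶ T'} {X'' : Over T''} [GrpObj X''] {n : X''.left ⟶ X'.left} (h' : GM g X'' X' n)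
    (h : GM f X' X m) : GM (g ≫ f) X'' X (n ≫ m) := by
  refine ⟨h'.pb.paste_horiz h.pb, fun {Z} q x y hx hy => ?_⟩
  rw [← Category.assoc, h'.mul q x y hx hy, h.mul]
  exact gm_congr _ _ (Category.assoc _ _ _) (Category.assoc _ _ _) (Category.assoc _ _ _)

/-- The factorisation through a cartesian morphism. -/
theorem lift (h : GM f X' X m) {g : T'' ⟶ T'} {X'' : Over T''} [GrpObj X''] {n : X''.left ⟶ X.left}
    (h' : GM (g ≫ f) X'' X n) : ∃ l : X''.left ⟶ X'.left, l ≫ m = n ∧ GM g X'' X' l := by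
  have hw : n ≫ X.hom = (X''.hom ≫ g) ≫ f := by rw [h'.pb.w, Category.assoc]
  have h1 : h.pb.lift n (X''.hom ≫ g) hw ≫ m = n := h.pb.lift_fst _ _ _
  have h2 : h.pb.lift n (X''.hom ≫ g) hw ≫ X'.hom = X''.hom ≫ g := h.pb.lift_snd _ _ _
  have hpb : IsPullback (h.pb.lift n (X''.hom ≫ g) hw) X''.hom X'.hom g := by
    refine IsPullback.of_right ?_ h2 h.pb
    rw [h1]
    exact h'.pb
  refine ⟨_, h1, hpb, fun {Z} q x y hx hy => ?_⟩
  apply h.pb.hom_ext
  · rw [Category.assoc, h1, h'.mul q x y hx hy, h.mul]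
    exact gm_congr _ _ (Category.assoc _ _ _).symm (by rw [Category.assoc, h1]) (by rw [Category.assoc, h1])
  · refine Eq.trans ?_ (gm_hom (X := X') _ _ _ _ _).symm
    rw [Category.assoc, h2, ← Category.assoc, gm_hom]

/-- Isomorphisms of group schemes. -/
theorem ofIso {X Y : Over T} [GrpObj X] [GrpObj Y] (e : X ≅ Y) [IsMonHom e.hom] : GM (𝟙 T) X Y e.hom.left := by
  have hw : e.hom.left ≫ Y.hom = X.hom ≫ 𝟙 T := by rw [Over.w, Category.comp_id]
  have hi : IsIso e.hom.left := inferInstanceAs (IsIso ((Over.forget T).map e.hom))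
  refine ⟨IsPullback.of_horiz_isIso ⟨hw⟩, fun {Z} q x y hx hy => ?_⟩
  have h1 := MonObj.mul_comp (Over.homMk x hx : Over.mk q ⟶ X) (Over.homMk y hy) e.hom
  have e1 : (x ≫ e.hom.left) ≫ Y.hom = q := by rw [Category.assoc, Over.w, hx]
  have e2 : (y ≫ e.hom.left) ≫ Y.hom = q := by rw [Category.assoc, Over.w, hy]
  refine Eq.trans (b := gm Y q (x ≫ e.hom.left) (y ≫ e.hom.left) e1 e2) (congrArg (fun t => t.left) h1) ?_
  exact gm_congr (X := Y) e1 e2 (Category.comp_id q).symm rfl rfl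

/-- Cartesian multiplicative morphisms over the identity are isomorphisms of group schemes. -/
theorem exists_iso {X Y : Over T} [GrpObj X] [GrpObj Y] {m : X.left ⟶ Y.left} (h : GM (𝟙 T) X Y m) :
    ∃ e : X ≅ Y, e.hom.left = m ∧ IsMonHom e.hom := by
  have hw : m ≫ Y.hom = X.hom := by rw [h.pb.w, Category.comp_id]
  have hi : IsIso m := h.pb.isIso_fst_of_isIso
  let e : X ≅ Y := Over.isoMk (asIso m) hw
  refine ⟨e, rfl, K732.Bidual.isMonHom_of_mul _ fun W a b => ?_⟩
  ext1
  have h1 := h.mul W.hom a.left b.left (Over.w a) (Over.w b)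
  exact h1.trans (gm_congr (X := Y) _ _ (Category.comp_id _) rfl rfl)

end GM

end cart

end K540.Ag
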