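import Groth.Agent.AgPol.K540.GlueGrp
import Groth.Agent.AbDual.K732.CubeSec
import Groth.Agent.AbDual.K732.Dual

/-!
# Gluing rigidified classes and sections

* `cls_ext` : rigidified classes on an abelian scheme are determined Zariski-locally on the base;
* `exists_cls`, `exists_sec` : gluing of classes and sections along `GlueGrp`.
-/

set_option autoImplicit false
set_option linter.dupNamespace false
universe u

open CategoryTheory Limits MonoidalCategory CartesianMonoidalCategory AlgebraicGeometry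
open scoped MonObj

namespace K540.Ag

open Groth.Agent.Grpsch.PicGrp Groth.Agent.Fga.RigGrp K732.RigSheaf K732.Cov

section ext

variable {T : Scheme.{u}} (A : Over T) [GrpObj A]

/-- The covering of the final object by open immersions. -/
noncomputable def zcov {K : Type u} (V : K → Scheme.{u}) (v : ∀ k, V k ⟶ T) (hv : ∀ k, IsOpenImmersion (v k))
    (hc : ∀ t : T, ∃ k, t ∈ Set.range (v k)) : FCov (Over.mk (𝟙 T)) :=
  ⟨K, fun k => Over.mk (v k), fun k => Over.homMk (v k) (Category.comp_id _),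
    fun k => by
      have := hv k
      exact inferInstanceAs (Flat (v k)),
    fun k => by
      have := hv k
      exact inferInstanceAs (LocallyOfFinitePresentation (v k)),
    fun t => by
      obtain ⟨k, y, hy⟩ := hc t
      exact ⟨k, y, hy⟩⟩

variable {A}

theorem sec_fst : PicF.secT A.hom (η[A] : 𝟙_ (Over T) ⟶ A).left (Over.w η[A]) (Over.mk (𝟙 T)) ≫
    pullback.fst A.hom (𝟙 T) = (η[A] : 𝟙_ (Over T) ⟶ A).left :=
  (secT_fst A.hom _ _ (Over.mk (𝟙 T))).trans (Category.id_comp _)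

variable [IsProper A.hom] [Flat A.hom] [LocallyOfFinitePresentation A.hom] [GeometricallyIntegral A.hom]

/-- Rigidified classes are determined locally on the base. -/
theorem cls_ext {K : Type u} (V : K → Scheme.{u}) (v : ∀ k, V k ⟶ T) (hv : ∀ k, IsOpenImmersion (v k))
    (hc : ∀ t : T, ∃ k, t ∈ Set.range (v k)) {c d : Pic A.left}
    (h1 : pull (η[A] : 𝟙_ (Over T) ⟶ A).left c = 1) (h2 : pull (η[A] : 𝟙_ (Over T) ⟶ A).left d = 1)
    (h : ∀ k, pull (pullback.fst A.hom (v k)) c = pull (pullback.fst A.hom (v k)) d) : c = d := by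
  have key : pull (pullback.fst A.hom (𝟙 T)) c = pull (pullback.fst A.hom (𝟙 T)) d := by
    refine rg_ext (f := A.hom) (σ := (η[A] : 𝟙_ (Over T) ⟶ A).left) (Over.w η[A])
      (K732.CubeSec.bijective_XTproj A.hom) (zcov V v hv hc) (T := Over.mk (𝟙 T)) ?_ ?_ fun k => ?_
    · rw [mem_Rg, ← pull_comp]
      exact (congrArg (fun t => pull t c) sec_fst).trans h1
    · rw [mem_Rg, ← pull_comp]
      exact (congrArg (fun t => pull t d) sec_fst).trans h2
    · rw [← pull_comp, ← pull_comp]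
      have e := XTmap_fst A.hom ((zcov V v hv hc).j k)
      exact (congrArg (fun t => pull t c) e).trans ((h k).trans (congrArg (fun t => pull t d) e).symm)
  have h3 := congrArg (pull (inv (pullback.fst A.hom (𝟙 T)))) key
  rwa [← pull_comp, ← pull_comp, IsIso.inv_hom_id, pull_id, pull_id] at h3

theorem rg_glue' {K : Type u} (V : K → Scheme.{u}) (v : ∀ k, V k ⟶ T) (hv : ∀ k, IsOpenImmersion (v k))
    (hc : ∀ t : T, ∃ k, t ∈ Set.range (v k)) (x : ∀ k, Pic (PicF.XT A.hom (Over.mk (v k))))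
    (hx : ∀ k, pull (PicF.secT A.hom (η[A] : 𝟙_ (Over T) ⟶ A).left (Over.w η[A]) (Over.mk (v k))) (x k) = 1)
    (compat : ∀ (i k : K) (W : Over T) (a : W ⟶ Over.mk (v i)) (b : W ⟶ Over.mk (v k)),
      pull (PicF.XTmap A.hom a) (x i) = pull (PicF.XTmap A.hom b) (x k)) :
    ∃ c : Pic (PicF.XT A.hom (Over.mk (𝟙 T))),
      pull (PicF.secT A.hom (η[A] : 𝟙_ (Over T) ⟶ A).left (Over.w η[A]) (Over.mk (𝟙 T))) c = 1 ∧
      ∀ k, pull (PicF.XTmap A.hom (Over.homMk (v k) (Category.comp_id _) : Over.mk (v k) ⟶ Over.mk (𝟙 T))) c = x k := by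
  obtain ⟨c, h1, h2⟩ := rg_glue (f := A.hom) (σ := (η[A] : 𝟙_ (Over T) ⟶ A).left) (Over.w η[A])
    (K732.CubeSec.bijective_XTproj A.hom) (zcov V v hv hc) (T := Over.mk (𝟙 T)) x hx
    (fun i k W a b _ => compat i k W a b)
  exact ⟨c, h1, h2⟩

end ext

section glue

open Groth.Agent.Sga7.H736.RelGlue

variable {T : Scheme.{u}} {J : Type u} [Preorder J] (𝒰 : Dir T J)

/-- Finite intersections. -/
def Meet : Prop := ∀ i j : J, ∃ k, k ≤ i ∧ k ≤ j ∧ ∀ s : T, s ∈ Set.range (𝒰.f i) → s ∈ Set.range (𝒰.f j) →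
  s ∈ Set.range (𝒰.f k)

variable {𝒰}

theorem Meet.exists_fac (hM : Meet 𝒰) {i j : J} {W : Scheme.{u}} (p : W ⟶ 𝒰.U i) (q : W ⟶ 𝒰.U j)
    (h : p ≫ 𝒰.f i = q ≫ 𝒰.f j) :
    ∃ (k : J) (hi : k ≤ i) (hj : k ≤ j) (r : W ⟶ 𝒰.U k), r ≫ 𝒰.tr hi = p ∧ r ≫ 𝒰.tr hj = q := by
  obtain ⟨k, hi, hj, hk⟩ := hM i j
  have hr : Set.range (p ≫ 𝒰.f i) ⊆ Set.range (𝒰.f k) := by
    rintro _ ⟨x, rfl⟩
    apply hk
    · exact ⟨p x, (Scheme.Hom.comp_apply _ _ _).symm⟩
    · rw [h]
      exact ⟨q x, (Scheme.Hom.comp_apply _ _ _).symm⟩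
  refine ⟨k, hi, hj, IsOpenImmersion.lift (𝒰.f k) _ hr, ?_, ?_⟩
  · rw [← cancel_mono (𝒰.f i), Category.assoc, 𝒰.tr_f, IsOpenImmersion.lift_fac]
  · rw [← cancel_mono (𝒰.f j), Category.assoc, 𝒰.tr_f, IsOpenImmersion.lift_fac, h]

variable {X : ∀ j, Over (𝒰.U j)} [∀ j, GrpObj (X j)] {m : ∀ {i j : J}, i ≤ j → ((X i).left ⟶ (X j).left)}
  {A : Over T} [GrpObj A] {gl : ∀ j, (X j).left ⟶ A.left}

/-- Gluing sections. -/
theorem exists_sec (hM : Meet 𝒰) (hmg : ∀ {i j : J} (h : i ≤ j), m h ≫ gl j = gl i)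
    (hgl : ∀ j, GM (𝒰.f j) (X j) A (gl j))
    (σ : ∀ j, 𝟙_ (Over (𝒰.U j)) ⟶ X j) (hσ : ∀ {i j : J} (h : i ≤ j), (σ i).left ≫ m h = 𝒰.tr h ≫ (σ j).left) :
    ∃ s : 𝟙_ (Over T) ⟶ A, ∀ j, (σ j).left ≫ gl j = 𝒰.f j ≫ s.left := by
  obtain ⟨s, hs⟩ := exists_glue (Z := T) (Y := A.left) 𝒰.U 𝒰.f 𝒰.op 𝒰.cov (fun j => (σ j).left ≫ gl j) (by
    intro i j W p q hpq
    obtain ⟨k, hi, hj, r, rfl, rfl⟩ := hM.exists_fac p q hpq
    have h1 : ∀ {l : J} (h : k ≤ l), (r ≫ 𝒰.tr h) ≫ (σ l).left ≫ gl l = r ≫ (σ k).left ≫ gl k := by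
      intro l h
      rw [← hmg h, ← Category.assoc (σ k).left, hσ h, Category.assoc, Category.assoc]
    exact (h1 hi).trans (h1 hj).symm)
  have hw : s ≫ A.hom = 𝟙 T := by
    refine hom_ext_cov 𝒰.U 𝒰.f 𝒰.op 𝒰.cov fun j => ?_
    rw [← Category.assoc, hs, Category.assoc, (hgl j).pb.w, ← Category.assoc]
    have e : (σ j).left ≫ (X j).hom = 𝟙 _ := Over.w (σ j)
    exact (congrArg (· ≫ 𝒰.f j) e).trans ((Category.id_comp _).trans (Category.comp_id _).symm)
  exact ⟨Over.homMk s hw, fun j => (hs j).symm⟩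

/-- Gluing rigidified classes. -/
theorem exists_cls [IsProper A.hom] [Flat A.hom] [LocallyOfFinitePresentation A.hom] [GeometricallyIntegral A.hom]
    (hM : Meet 𝒰) (hmg : ∀ {i j : J} (h : i ≤ j), m h ≫ gl j = gl i)
    (hm : ∀ {i j : J} (h : i ≤ j), GM (𝒰.tr h) (X i) (X j) (m h))
    (hgl : ∀ j, GM (𝒰.f j) (X j) A (gl j))
    (c : ∀ j, Pic (X j).left) (hc : ∀ j, pull (η[X j] : 𝟙_ (Over (𝒰.U j)) ⟶ X j).left (c j) = 1)
    (hmc : ∀ {i j : J} (h : i ≤ j), pull (m h) (c j) = c i) :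
    ∃ c₀ : Pic A.left, pull (η[A] : 𝟙_ (Over T) ⟶ A).left c₀ = 1 ∧ ∀ j, pull (gl j) c₀ = c j := by
  -- the isomorphisms
  let w : ∀ j, pullback A.hom (𝒰.f j) ⟶ (X j).left := fun j =>
    (hgl j).pb.lift (pullback.fst _ _) (pullback.snd _ _) pullback.condition
  have w1 : ∀ j, w j ≫ gl j = pullback.fst _ _ := fun j => (hgl j).pb.lift_fst _ _ _
  have w2 : ∀ j, w j ≫ (X j).hom = pullback.snd _ _ := fun j => (hgl j).pb.lift_snd _ _ _
  obtain ⟨c₀, hc₀, hc₁⟩ := rg_glue' (A := A) 𝒰.U 𝒰.f 𝒰.op 𝒰.cov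
    (fun j => pull (w j) (c j)) (by
      intro j
      rw [← pull_comp]
      have e1 : PicF.secT A.hom (η[A] : 𝟙_ (Over T) ⟶ A).left (Over.w η[A]) (Over.mk (𝒰.f j)) ≫ w j =
          (η[X j] : 𝟙_ (Over (𝒰.U j)) ⟶ X j).left := by
        apply (hgl j).pb.hom_ext
        · rw [Category.assoc, w1, (hgl j).eta]
          exact secT_fst A.hom _ _ (Over.mk (𝒰.f j))
        · rw [Category.assoc, w2]
          exact (secT_XTproj A.hom _ _ (Over.mk (𝒰.f j))).trans (Over.w η[X j]).symm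
      exact (congrArg (fun t => pull t (c j)) e1).trans (hc j))
    (by
      intro i k W a b
      have ha : a.left ≫ 𝒰.f i = W.hom := Over.w a
      have hb : b.left ≫ 𝒰.f k = W.hom := Over.w b
      have hab' : a.left ≫ 𝒰.f i = b.left ≫ 𝒰.f k := ha.trans hb.symm
      obtain ⟨l, hi, hk, r, hr1, hr2⟩ := hM.exists_fac a.left b.left hab'
      have hr : r ≫ 𝒰.f l = W.hom := by
        rw [← 𝒰.tr_f hi, ← Category.assoc, hr1]
        exact ha
      let t : pullback A.hom W.hom ⟶ (X l).left := (hgl l).pb.lift (pullback.fst _ _) (pullback.snd _ _ ≫ r)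
        (by rw [Category.assoc, hr, pullback.condition])
      have t1 : t ≫ gl l = pullback.fst _ _ := (hgl l).pb.lift_fst _ _ _
      have t2 : t ≫ (X l).hom = pullback.snd _ _ ≫ r := (hgl l).pb.lift_snd _ _ _
      have key : ∀ {j : J} (h : l ≤ j) (a : W ⟶ Over.mk (𝒰.f j)), r ≫ 𝒰.tr h = a.left →
          PicF.XTmap A.hom a ≫ w j = t ≫ m h := by
        intro j h a ha
        apply (hgl j).pb.hom_ext
        · rw [Category.assoc, w1, Category.assoc, hmg, t1]
          exact XTmap_fst A.hom a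
        · rw [Category.assoc, w2, Category.assoc, (hm h).pb.w, ← Category.assoc, t2, Category.assoc, ha]
          exact XTmap_XTproj A.hom a
      have e1 := congrArg (fun t => pull t (c i)) (key hi a hr1)
      have e2 := congrArg (fun t => pull t (c k)) (key hk b hr2)
      rw [pull_comp, pull_comp, hmc] at e1 e2
      exact e1.trans e2.symm)
  refine ⟨pull (inv (pullback.fst A.hom (𝟙 T))) c₀, ?_, fun j => ?_⟩
  · rw [← pull_comp]
    have e : (η[A] : 𝟙_ (Over T) ⟶ A).left ≫ inv (pullback.fst A.hom (𝟙 T)) =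
        PicF.secT A.hom (η[A] : 𝟙_ (Over T) ⟶ A).left (Over.w η[A]) (Over.mk (𝟙 T)) := by
      rw [← cancel_mono (pullback.fst A.hom (𝟙 T)), Category.assoc, IsIso.inv_hom_id, sec_fst]
      exact Category.comp_id _
    exact (congrArg (fun t => pull t c₀) e).trans hc₀
  · have h1 := hc₁ j
    have hw : IsIso (w j) := by
      have : w j = ((hgl j).pb.isoPullback).inv := by
        apply (hgl j).pb.hom_ext
        · rw [w1, IsPullback.isoPullback_inv_fst]
        · rw [w2, IsPullback.isoPullback_inv_snd]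
      rw [this]
      infer_instance
    have e : w j ≫ gl j ≫ inv (pullback.fst A.hom (𝟙 T)) =
        PicF.XTmap A.hom (Over.homMk (𝒰.f j) (Category.comp_id _) : Over.mk (𝒰.f j) ⟶ Over.mk (𝟙 T)) := by
      rw [← cancel_mono (pullback.fst A.hom (𝟙 T)), Category.assoc, Category.assoc, IsIso.inv_hom_id,
        Category.comp_id, w1]
      exact (XTmap_fst A.hom
        (Over.homMk (𝒰.f j) (Category.comp_id _) : Over.mk (𝒰.f j) ⟶ Over.mk (𝟙 T))).symm
    have h2 : pull (w j) (pull (gl j ≫ inv (pullback.fst A.hom (𝟙 T))) c₀) = pull (w j) (c j) := by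
      rw [← pull_comp, e]
      exact h1
    have h3 := congrArg (pull (inv (w j))) h2
    rw [← pull_comp (inv (w j)) (w j), ← pull_comp (inv (w j)) (w j), IsIso.inv_hom_id, pull_id, pull_id] at h3
    rw [← pull_comp]
    exact h3

end glue

end K540.Ag
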