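import Groth.Agent.AgPol.K540.GM
import Groth.Agent.Sga7.H736.RelGlue

/-!
# Gluing group schemes over a directed open covering of the base

`GlueGrp.exists_glue_grp` : group schemes `X j` over `𝒰.U j` with cartesian multiplicative transition maps glue to a
group scheme over the base.
-/

set_option autoImplicit false
set_option linter.dupNamespace false
universe u

open CategoryTheory Limits MonoidalCategory CartesianMonoidalCategory AlgebraicGeometry
open scoped MonObj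

namespace K540.Ag

/-- A jointly surjective family of open immersions. -/
@[simps I₀ X f]
noncomputable def ocov {Z : Scheme.{u}} {K : Type u} (R : K → Scheme.{u}) (r : ∀ k, R k ⟶ Z)
    (hr : ∀ k, IsOpenImmersion (r k)) (hc : ∀ z : Z, ∃ k, z ∈ Set.range (r k)) : Z.OpenCover where
  I₀ := K
  X k := R k
  f k := r k
  mem₀ := by
    rw [Scheme.presieve₀_mem_precoverage_iff]
    exact ⟨fun s => hc s, fun j => hr j⟩

/-- Gluing morphisms. -/
theorem exists_glue {Z Y : Scheme.{u}} {K : Type u} (R : K → Scheme.{u}) (r : ∀ k, R k ⟶ Z)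
    (hr : ∀ k, IsOpenImmersion (r k)) (hc : ∀ z : Z, ∃ k, z ∈ Set.range (r k)) (f : ∀ k, R k ⟶ Y)
    (hf : ∀ (i j : K) (W : Scheme.{u}) (p : W ⟶ R i) (q : W ⟶ R j), p ≫ r i = q ≫ r j → p ≫ f i = q ≫ f j) :
    ∃ z : Z ⟶ Y, ∀ k, r k ≫ z = f k :=
  ⟨(ocov R r hr hc).glueMorphisms f fun i j => hf i j _ _ _ pullback.condition,
    fun k => (ocov R r hr hc).ι_glueMorphisms f (fun i j => hf i j _ _ _ pullback.condition) k⟩

theorem hom_ext_cov {Z Y : Scheme.{u}} {K : Type u} (R : K → Scheme.{u}) (r : ∀ k, R k ⟶ Z)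
    (hr : ∀ k, IsOpenImmersion (r k)) (hc : ∀ z : Z, ∃ k, z ∈ Set.range (r k)) {a b : Z ⟶ Y}
    (h : ∀ k, r k ≫ a = r k ≫ b) : a = b :=
  (ocov R r hr hc).hom_ext _ _ h

/-- Locality of equality. -/
theorem hom_ext_loc {Z Y : Scheme.{u}} {a b : Z ⟶ Y}
    (h : ∀ z : Z, ∃ V : Z.Opens, z ∈ V ∧ V.ι ≫ a = V.ι ≫ b) : a = b := by
  choose V hV hab using h
  refine hom_ext_cov (K := Z) (fun z => (V z).toScheme) (fun z => (V z).ι) (fun z => inferInstance)
    (fun z => ⟨z, ?_⟩) (fun z => hab z)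
  rw [Scheme.Opens.range_ι]
  exact hV z

namespace GlueGrp

open Groth.Agent.Sga7.H736.RelGlue

variable {T : Scheme.{u}} {J : Type u} [Preorder J] {𝒰 : Dir T J}
variable {X : ∀ j, Over (𝒰.U j)} [∀ j, GrpObj (X j)] {m : ∀ {i j : J}, i ≤ j → ((X i).left ⟶ (X j).left)}
variable (hm : ∀ {i j : J} (h : i ≤ j), GM (𝒰.tr h) (X i) (X j) (m h))
variable {G : Scheme.{u}} {g : G ⟶ T} {gl : ∀ j, (X j).left ⟶ G} (hι : ∀ j, IsPullback (gl j) (X j).hom g (𝒰.f j))
variable (hmι : ∀ {i j : J} (h : i ≤ j), m h ≫ gl j = gl i)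

/-- Restriction to a smaller member. -/
noncomputable def tr (Z : Over T) {i j : J} (h : i ≤ j) :
    Over.mk (pullback.snd Z.hom (𝒰.f i) ≫ 𝒰.tr h) ⟶ Over.mk (pullback.snd Z.hom (𝒰.f j)) :=
  Over.homMk (pullback.lift (pullback.fst _ _) (pullback.snd _ _ ≫ 𝒰.tr h)
    (by rw [Category.assoc, 𝒰.tr_f, pullback.condition])) (pullback.lift_snd _ _ _)

/-- Restriction along a morphism. -/
noncomputable def rs {Z Z' : Over T} (f : Z' ⟶ Z) (j : J) :
    Over.mk (pullback.snd Z'.hom (𝒰.f j)) ⟶ Over.mk (pullback.snd Z.hom (𝒰.f j)) :=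
  Over.homMk (pullback.lift (pullback.fst _ _ ≫ f.left) (pullback.snd _ _)
    (by rw [Category.assoc, Over.w, pullback.condition])) (pullback.lift_snd _ _ _)

/-- The group of compatible families of points. -/
noncomputable def sub (Z : Over T) : Subgroup (∀ j, Over.mk (pullback.snd Z.hom (𝒰.f j)) ⟶ X j) where
  carrier := {s | ∀ {i j : J} (h : i ≤ j), tr Z h ≫ s j = (hm h).pts _ (s i)}
  mul_mem' {s t} hs ht i j h := by
    rw [Pi.mul_apply, Pi.mul_apply, MonObj.comp_mul, map_mul, hs h, ht h]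
  one_mem' {i j} h := by
    rw [Pi.one_apply, Pi.one_apply, MonObj.comp_one, map_one]
  inv_mem' {s} hs i j h := by
    rw [Pi.inv_apply, Pi.inv_apply, GrpObj.comp_inv, map_inv, hs h]

/-- The family of a point. -/
noncomputable def fam0 (Z : Over T) (a : Z ⟶ Over.mk g) (j : J) : Over.mk (pullback.snd Z.hom (𝒰.f j)) ⟶ X j :=
  Over.homMk ((hι j).lift (pullback.fst _ _ ≫ a.left) (pullback.snd _ _) (by
    rw [Category.assoc, show a.left ≫ g = Z.hom from Over.w a, pullback.condition])) ((hι j).lift_snd _ _ _)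

theorem fam0_ι (Z : Over T) (a : Z ⟶ Over.mk g) (j : J) :
    (fam0 hι Z a j).left ≫ gl j = pullback.fst _ _ ≫ a.left := (hι j).lift_fst _ _ _

include hmι in
theorem fam0_mem (Z : Over T) (a : Z ⟶ Over.mk g) : (fam0 hι Z a) ∈ sub hm Z := by
  intro i j h
  ext1
  apply (hι j).hom_ext
  · rw [GM.pts_left, Category.assoc, hmι, fam0_ι, Over.comp_left, Category.assoc, fam0_ι, ← Category.assoc]
    congr 1
    exact pullback.lift_fst _ _ _
  · exact (Over.w (tr Z h ≫ fam0 hι Z a j)).trans (Over.w ((hm h).pts _ (fam0 hι Z a i))).symm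

/-- The family of a point. -/
noncomputable def fam (Z : Over T) (a : Z ⟶ Over.mk g) : sub hm Z := ⟨fam0 hι Z a, fam0_mem hm hι hmι Z a⟩

theorem cov_snd (Z : Over T) (z : Z.left) : ∃ j, z ∈ Set.range (pullback.fst Z.hom (𝒰.f j)) := by
  obtain ⟨j, y, hy⟩ := 𝒰.cov (Z.hom z)
  obtain ⟨w, hw, -⟩ := Scheme.Pullback.exists_preimage_pullback z y hy.symm
  exact ⟨j, w, hw⟩

theorem fam_injective (Z : Over T) : Function.Injective (fam hm hι hmι Z) := by
  intro a b hab
  ext1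
  refine hom_ext_cov (fun j => pullback Z.hom (𝒰.f j)) (fun j => pullback.fst Z.hom (𝒰.f j))
    (fun j => inferInstance) (cov_snd Z) fun j => ?_
  rw [← fam0_ι hι, ← fam0_ι hι]
  have := congrFun (congrArg Subtype.val hab) j
  exact congrArg (fun t => t.left ≫ gl j) this

theorem fam_surjective (Z : Over T) : Function.Surjective (fam hm hι hmι Z) := by
  intro s
  have key : ∀ (i j : J) (W : Scheme.{u}) (p : W ⟶ pullback Z.hom (𝒰.f i)) (q : W ⟶ pullback Z.hom (𝒰.f j)),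
      p ≫ pullback.fst Z.hom (𝒰.f i) = q ≫ pullback.fst Z.hom (𝒰.f j) →
      p ≫ (s.1 i).left ≫ gl i = q ≫ (s.1 j).left ≫ gl j := by
    intro i j W p q hpq
    -- the case `i ≤ j`
    have key1 : ∀ (i j : J) (h : i ≤ j) (W : Scheme.{u}) (p : W ⟶ pullback Z.hom (𝒰.f i))
        (q : W ⟶ pullback Z.hom (𝒰.f j)), p ≫ pullback.fst Z.hom (𝒰.f i) = q ≫ pullback.fst Z.hom (𝒰.f j) →
        p ≫ (s.1 i).left ≫ gl i = q ≫ (s.1 j).left ≫ gl j := by
      intro i j h W p q hpq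
      have h1 := congrArg (fun t => t.left ≫ gl j) (s.2 h)
      have h2 : (tr Z h).left ≫ (s.1 j).left ≫ gl j = (s.1 i).left ≫ gl i := by
        rw [← hmι h]
        simpa only [Over.comp_left, Category.assoc, GM.pts_left] using h1
      have h3 : p ≫ (tr Z h).left = q := by
        apply pullback.hom_ext
        · rw [Category.assoc, ← hpq]
          congr 1
          exact pullback.lift_fst _ _ _
        · rw [← cancel_mono (𝒰.f j), Category.assoc, Category.assoc, Category.assoc, ← pullback.condition,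
            ← Category.assoc q, ← hpq, Category.assoc, pullback.condition]
          congr 1
          have : (tr Z h).left ≫ pullback.snd Z.hom (𝒰.f j) = pullback.snd _ _ ≫ 𝒰.tr h := pullback.lift_snd _ _ _
          rw [← Category.assoc, this, Category.assoc, 𝒰.tr_f]
          exact pullback.condition.symm
      rw [← h2, ← Category.assoc, h3]
    refine hom_ext_loc fun w => ?_
    have hw : (p ≫ pullback.snd Z.hom (𝒰.f i)) ≫ 𝒰.f i = (q ≫ pullback.snd Z.hom (𝒰.f j)) ≫ 𝒰.f j := by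
      rw [Category.assoc, ← pullback.condition, ← Category.assoc, hpq, Category.assoc, pullback.condition,
        ← Category.assoc]
    obtain ⟨k, hki, hkj, hk⟩ := 𝒰.dir i j ((p ≫ pullback.snd Z.hom (𝒰.f i)) ≫ 𝒰.f i |>.base w) ⟨_, rfl⟩
      (by rw [hw]; exact ⟨_, rfl⟩)
    let e : W ⟶ T := (p ≫ pullback.snd Z.hom (𝒰.f i)) ≫ 𝒰.f i
    let V : W.Opens := e ⁻¹ᵁ (𝒰.f k).opensRange
    refine ⟨V, hk, ?_⟩
    have hV : Set.range (V.ι ≫ e) ⊆ Set.range (𝒰.f k) := by
      rintro _ ⟨x, rfl⟩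
      exact x.2
    let b : V.toScheme ⟶ 𝒰.U k := IsOpenImmersion.lift (𝒰.f k) (V.ι ≫ e) hV
    have hb : b ≫ 𝒰.f k = V.ι ≫ e := IsOpenImmersion.lift_fac _ _ _
    have he : e = p ≫ pullback.fst Z.hom (𝒰.f i) ≫ Z.hom := by
      rw [pullback.condition]
      exact Category.assoc _ _ _
    let c : V.toScheme ⟶ pullback Z.hom (𝒰.f k) := pullback.lift (V.ι ≫ p ≫ pullback.fst _ _) b (by
      rw [hb, he]
      simp only [Category.assoc])
    have hc : c ≫ pullback.fst Z.hom (𝒰.f k) = V.ι ≫ p ≫ pullback.fst _ _ := pullback.lift_fst _ _ _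
    have e1 := key1 k i hki _ c (V.ι ≫ p) (by rw [hc, Category.assoc])
    have e2 := key1 k j hkj _ c (V.ι ≫ q) (by rw [hc, Category.assoc, hpq])
    rw [Category.assoc] at e1 e2
    rw [← e1, ← e2]
  obtain ⟨a, ha⟩ := exists_glue (fun j => pullback Z.hom (𝒰.f j)) (fun j => pullback.fst Z.hom (𝒰.f j))
    (fun j => inferInstance) (cov_snd Z) (fun j => (s.1 j).left ≫ gl j) key
  have haw : a ≫ g = Z.hom := by
    refine hom_ext_cov (fun j => pullback Z.hom (𝒰.f j)) (fun j => pullback.fst Z.hom (𝒰.f j))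
      (fun j => inferInstance) (cov_snd Z) fun j => ?_
    rw [← Category.assoc, ha, Category.assoc, (hι j).w, pullback.condition, ← Category.assoc]
    congr 1
    exact Over.w (s.1 j)
  refine ⟨Over.homMk a haw, ?_⟩
  apply Subtype.ext
  funext j
  ext1
  apply (hι j).hom_ext
  · exact (fam0_ι hι Z (Over.homMk a haw) j).trans (ha j)
  · exact (Over.w (fam0 hι Z (Over.homMk a haw) j)).trans (Over.w (s.1 j)).symm

theorem fam_comp {Z Z' : Over T} (f : Z' ⟶ Z) (a : Z ⟶ Over.mk g) (j : J) :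
    fam0 hι Z' (f ≫ a) j = rs f j ≫ fam0 hι Z a j := by
  ext1
  apply (hι j).hom_ext
  · rw [fam0_ι, Over.comp_left, Over.comp_left, Category.assoc, fam0_ι, ← Category.assoc, ← Category.assoc]
    congr 1
    exact (pullback.lift_fst _ _ _).symm
  · exact (Over.w (fam0 hι Z' (f ≫ a) j)).trans (Over.w (rs f j ≫ fam0 hι Z a j)).symm

/-- The bijection between points and compatible families. -/
noncomputable def eqv (Z : Over T) : (Z ⟶ Over.mk g) ≃ sub hm Z :=
  Equiv.ofBijective _ ⟨fam_injective hm hι hmι Z, fam_surjective hm hι hmι Z⟩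

/-- The group of points. -/
@[reducible]
noncomputable def grpZ (Z : Over T) : Group (Z ⟶ Over.mk g) := (eqv hm hι hmι Z).group

theorem fam_mul0 (Z : Over T) (a b : Z ⟶ Over.mk g) (j : J) :
    fam0 hι Z ((grpZ hm hι hmι Z).mul a b) j = fam0 hι Z a j * fam0 hι Z b j := by
  have : eqv hm hι hmι Z ((grpZ hm hι hmι Z).mul a b) = eqv hm hι hmι Z a * eqv hm hι hmι Z b :=
    (eqv hm hι hmι Z).apply_symm_apply _
  exact congrFun (congrArg Subtype.val this) j

theorem nat0 {Z Z' : Over T} (f : Z' ⟶ Z) (a b : Z ⟶ Over.mk g) :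
    f ≫ (grpZ hm hι hmι Z).mul a b = (grpZ hm hι hmι Z').mul (f ≫ a) (f ≫ b) := by
  apply fam_injective hm hι hmι
  apply Subtype.ext
  funext j
  change fam0 hι Z' _ j = fam0 hι Z' _ j
  rw [fam_comp, fam_mul0, fam_mul0, fam_comp, fam_comp, MonObj.comp_mul]

/-- The group structure. -/
@[reducible]
noncomputable def grpA : GrpObj (Over.mk g) :=
  K208.EtGlue.grpOfPts (Over.mk g) (grpZ hm hι hmι) fun _ _ f x y => nat0 hm hι hmι f x y

theorem fam_mul (Z : Over T) (a b : Z ⟶ Over.mk g) (j : J) : letI := grpA hm hι hmι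
    fam0 hι Z (a * b) j = fam0 hι Z a j * fam0 hι Z b j := by
  rw [K208.EtGlue.grpOfPts_mul]
  exact fam_mul0 hm hι hmι Z a b j

theorem gm_ι (j : J) : letI := grpA hm hι hmι; GM (𝒰.f j) (X j) (Over.mk g) (gl j) := by
  let _ := grpA hm hι hmι
  refine ⟨hι j, fun {Z} q x y hx hy => ?_⟩
  let Z' : Over T := Over.mk (q ≫ 𝒰.f j)
  have hx' : (x ≫ gl j) ≫ g = q ≫ 𝒰.f j := by rw [Category.assoc, (hι j).w, ← Category.assoc, hx]
  have hy' : (y ≫ gl j) ≫ g = q ≫ 𝒰.f j := by rw [Category.assoc, (hι j).w, ← Category.assoc, hy]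
  let a : Z' ⟶ Over.mk g := Over.homMk (x ≫ gl j) hx'
  let b : Z' ⟶ Over.mk g := Over.homMk (y ≫ gl j) hy'
  change gm (X j) q x y hx hy ≫ gl j = (a * b).left
  let w : Z ⟶ pullback Z'.hom (𝒰.f j) := pullback.lift (𝟙 Z) q (Category.id_comp _)
  have w1 : w ≫ pullback.fst _ _ = 𝟙 Z := pullback.lift_fst _ _ _
  have w2 : w ≫ pullback.snd _ _ = q := pullback.lift_snd _ _ _
  have h1 : ∀ c : Z' ⟶ Over.mk g, w ≫ (fam0 hι Z' c j).left ≫ gl j = c.left := fun c => by
    rw [fam0_ι, ← Category.assoc, w1, Category.id_comp]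
  have h2 : ∀ (z : Z ⟶ (X j).left) (hz : z ≫ (X j).hom = q) (hz' : (z ≫ gl j) ≫ g = q ≫ 𝒰.f j),
      w ≫ (fam0 hι Z' (Over.homMk (z ≫ gl j) hz') j).left = z := fun z hz hz' => by
    apply (hι j).hom_ext
    · rw [Category.assoc, h1]
      rfl
    · rw [Category.assoc, hz]
      refine Eq.trans (congrArg (w ≫ ·) (Over.w (fam0 hι Z' _ j))) w2
  rw [← h1, fam_mul hm hι hmι, mul_left, ← Category.assoc, comp_gm]
  congr 1
  exact gm_congr (X := X j) _ _ w2.symm (h2 x hx hx').symm (h2 y hy hy').symm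

end GlueGrp

open Groth.Agent.Sga7.H736.RelGlue in
/-- **Gluing of group schemes.** -/
theorem exists_glue_grp {T : Scheme.{u}} {J : Type u} [Preorder J] (𝒰 : Dir T J)
    (X : ∀ j, Over (𝒰.U j)) [∀ j, GrpObj (X j)] (m : ∀ {i j : J}, i ≤ j → ((X i).left ⟶ (X j).left))
    (hm : ∀ {i j : J} (h : i ≤ j), GM (𝒰.tr h) (X i) (X j) (m h))
    (m_refl : ∀ i, m (le_refl i) = 𝟙 (X i).left)
    (m_trans : ∀ {i j k : J} (h : i ≤ j) (h' : j ≤ k), m (h.trans h') = m h ≫ m h') :
    ∃ (A : Over T) (_ : GrpObj A) (gl : ∀ j, (X j).left ⟶ A.left),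
      (∀ j, GM (𝒰.f j) (X j) A (gl j)) ∧ (∀ {i j : J} (h : i ≤ j), m h ≫ gl j = gl i) := by
  obtain ⟨G, g, gl, h1, h2⟩ := Groth.Agent.Sga7.H736.RelGlue.exists_glue 𝒰 (fun j => (X j).left) (fun j => (X j).hom) m
    (fun h => (hm h).pb) m_refl m_trans
  exact ⟨Over.mk g, GlueGrp.grpA hm h1 h2, gl, GlueGrp.gm_ι hm h1 h2, h2⟩

end K540.Ag
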