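import Groth.Agent.AgPol.K540.LocCM

/-!
# Gluing core families

`exists_glued` : core families over the members of an open covering, isomorphic over the intersections, glue to a core
family over the base with rigidified class, abelian over the base.
-/

set_option autoImplicit false
set_option linter.dupNamespace false
universe u

open CategoryTheory Limits MonoidalCategory CartesianMonoidalCategory AlgebraicGeometry
open scoped MonObj

namespace K540.Ag

open K117.Ag Groth.Agent.Grpsch.PicGrp Groth.Agent.Sga7.H736.RelGlue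

variable {S : Scheme.{u}} {g d n : ℕ}

section res

variable {T : Over S}

theorem resL_comp {U V W : T.left.Opens} (h : U ≤ V) (h' : V ≤ W) :
    (resL T (h.trans h')).left = (resL T h).left ≫ (resL T h').left := (T.left.homOfLE_homOfLE h h').symm

theorem resL_resH {U V : T.left.Opens} (h : U ≤ V) : (resL T h).left ≫ (resH T V).left = (resH T U).left :=
  T.left.homOfLE_ι h

theorem resL_refl (U : T.left.Opens) : resL T (le_refl U) = 𝟙 _ := by
  ext1
  exact T.left.homOfLE_rfl U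

end res

/-- The directed covering. -/
noncomputable def dirU {T : Scheme.{u}} {κ : Type u} (U : κ → T.Opens) (hU : (⨆ i, U i) = ⊤) :
    Dir T {W : T.Opens // ∃ i, W ≤ U i} where
  U W := W.1.toScheme
  f W := W.1.ι
  op W := inferInstance
  mono {W W'} h := by
    rw [Scheme.Opens.range_ι, Scheme.Opens.range_ι]
    exact h
  cov s := by
    have hs : s ∈ (⨆ i, U i) := by
      rw [hU]
      trivial
    obtain ⟨i, hi⟩ := TopologicalSpace.Opens.mem_iSup.1 hs
    refine ⟨⟨U i, i, le_rfl⟩, ?_⟩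
    rw [Scheme.Opens.range_ι]
    exact hi
  dir W W' s h h' := by
    rw [Scheme.Opens.range_ι] at h h'
    refine ⟨⟨W.1 ⊓ W'.1, W.2.choose, inf_le_left.trans W.2.choose_spec⟩, show W.1 ⊓ W'.1 ≤ W.1 from inf_le_left,
      show W.1 ⊓ W'.1 ≤ W'.1 from inf_le_right, ?_⟩
    rw [Scheme.Opens.range_ι]
    exact ⟨h, h'⟩

theorem dirU_tr {T : Scheme.{u}} {κ : Type u} (U : κ → T.Opens) (hU : (⨆ i, U i) = ⊤)
    {W W' : {W : T.Opens // ∃ i, W ≤ U i}} (h : W ≤ W') :
    (dirU U hU).tr h = T.homOfLE (show W.1 ≤ W'.1 from h) := by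
  refine (cancel_mono W'.1.ι).1 ?_
  exact ((dirU U hU).tr_f h).trans (T.homOfLE_ι _).symm

theorem dirU_meet {T : Scheme.{u}} {κ : Type u} (U : κ → T.Opens) (hU : (⨆ i, U i) = ⊤) : Meet (dirU U hU) := by
  intro W W'
  refine ⟨⟨W.1 ⊓ W'.1, W.2.choose, inf_le_left.trans W.2.choose_spec⟩, show W.1 ⊓ W'.1 ≤ W.1 from inf_le_left,
    show W.1 ⊓ W'.1 ≤ W'.1 from inf_le_right, fun s h h' => ?_⟩
  have h1 : s ∈ Set.range W.1.ι := h
  have h2 : s ∈ Set.range W'.1.ι := h'
  rw [Scheme.Opens.range_ι] at h1 h2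
  have h3 : s ∈ Set.range (W.1 ⊓ W'.1).ι := by
    rw [Scheme.Opens.range_ι]
    exact ⟨h1, h2⟩
  exact h3

section glue

variable {T : Over S} {κ : Type u} {U : κ → T.left.Opens} {x : ∀ i, Core (resO T (U i)) g}

/-- Comparison of restrictions. -/
theorem exists_cross
    (hr : ∀ i j, Core.r (resO T (U i ⊓ U j)) ((x i).pull (resL T inf_le_left)) ((x j).pull (resL T inf_le_right)))
    {W : T.left.Opens} {i j : κ} (hi : W ≤ U i) (hj : W ≤ U j) :
    ∃ m, CM (resL T hj).left ((x i).pull (resL T hi)) (x j) m := by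
  have hij : W ≤ U i ⊓ U j := le_inf hi hj
  obtain ⟨l, -, hl⟩ := (CM.pull (resL T (inf_le_left : U i ⊓ U j ≤ U i)) (x i)).lift (f' := (resL T hij).left)
    (cast_base (CM.pull (resL T hi) (x i)) (resL_comp hij inf_le_left))
  obtain ⟨m, hm⟩ := CM.of_r (hr i j)
  exact ⟨l ≫ m, cast_base (hl.comp hm) (resL_comp hij inf_le_right).symm⟩

variable (x) in
/-- The restricted families. -/
noncomputable def xW (W : {W : T.left.Opens // ∃ i, W ≤ U i}) : Core (resO T W.1) g :=
  (x W.2.choose).pull (resL T W.2.choose_spec)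

theorem exists_tr
    (hr : ∀ i j, Core.r (resO T (U i ⊓ U j)) ((x i).pull (resL T inf_le_left)) ((x j).pull (resL T inf_le_right)))
    {W W' : {W : T.left.Opens // ∃ i, W ≤ U i}} (h : W ≤ W') :
    ∃ m, CM (resL T (show W.1 ≤ W'.1 from h)).left (xW x W) (xW x W') m := by
  have h' : W.1 ≤ W'.1 := h
  obtain ⟨m, hm⟩ := exists_cross hr W.2.choose_spec (h'.trans W'.2.choose_spec)
  obtain ⟨l, -, hl⟩ := (CM.pull (resL T W'.2.choose_spec) (x W'.2.choose)).lift (f' := (resL T h').left)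
    (cast_base hm (resL_comp h' W'.2.choose_spec))
  exact ⟨l, hl⟩

theorem r_xW
    (hr : ∀ i j, Core.r (resO T (U i ⊓ U j)) ((x i).pull (resL T inf_le_left)) ((x j).pull (resL T inf_le_right)))
    (i : κ) : Core.r (resO T (U i)) (x i) (xW x ⟨U i, i, le_rfl⟩) := by
  let W : {W : T.left.Opens // ∃ i, W ≤ U i} := ⟨U i, i, le_rfl⟩
  obtain ⟨m, hm⟩ := exists_cross hr (le_refl (U i)) W.2.choose_spec
  have h1 : Core.r (resO T (U i)) ((x i).pull (resL T (le_refl (U i)))) (xW x W) := CM.r hm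
  rw [resL_refl] at h1
  exact r_trans (r_symm (r_pull_id (x i))) h1

/-- **Gluing core families.** -/
theorem exists_glued (hA : Node.AutTriv.{u} g d n) (hAb : Node.AbLocal.{u})
    (hAbI : ∀ {T : Scheme.{u}} {A B : Over T} (_ : A ≅ B), AgPol.IsAbSch A g → AgPol.IsAbSch B g)
    (hok : ∀ {T T' : Over S} (k : T' ⟶ T) (x : Core T g), LN S T → LN S T' → Core.ok g d n T x →
      Core.ok g d n T' (x.pull k)) (hT : LN S T) (hU : (⨆ i, U i) = ⊤) (hx : ∀ i, Core.ok g d n _ (x i))
    (hr : ∀ i j, Core.r (resO T (U i ⊓ U j)) ((x i).pull (resL T inf_le_left)) ((x j).pull (resL T inf_le_right))) :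
    ∃ y : Core T g, AgPol.IsAbSch y.X g ∧ pull (η[y.X] : 𝟙_ (Over T.left) ⟶ y.X).left y.c = 1 ∧
      ∀ i, Core.r _ (y.pull (resH T (U i))) (x i) := by
  have hLN : ∀ U : T.left.Opens, LN S (resO T U) := fun U => inferInstanceAs (IsLocallyNoetherian U.toScheme)
  have hokW : ∀ W, Core.ok g d n _ (xW x W) := fun W => hok _ _ (hLN _) (hLN _) (hx _)
  let J := {W : T.left.Opens // ∃ i, W ≤ U i}
  let 𝒰 : Dir T.left J := dirU U hU
  let X : ∀ W : J, Over (𝒰.U W) := fun W => (xW x W).X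
  let _ : ∀ W : J, GrpObj (X W) := fun W => (xW x W).grp
  have hm0 : ∀ (W W' : J) (h : W ≤ W'), ∃ m, CM (resL T (show W.1 ≤ W'.1 from h)).left (xW x W) (xW x W') m :=
    fun W W' h => exists_tr hr h
  choose m0 hm0 using hm0
  let m : ∀ {W W' : J}, W ≤ W' → ((X W).left ⟶ (X W').left) := fun {W W'} h => m0 W W' h
  have htr : ∀ {W W' : J} (h : W ≤ W'), (resL T (show W.1 ≤ W'.1 from h)).left = 𝒰.tr h :=
    fun h => (dirU_tr U hU h).symm
  have hm : ∀ {W W' : J} (h : W ≤ W'), GM (𝒰.tr h) (X W) (X W') (m h) := by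
    intro W W' h
    rw [← htr h]
    exact (hm0 W W' h).gm
  have m_refl : ∀ W : J, m (le_refl W) = 𝟙 (X W).left := by
    intro W
    refine cm_uniq hA (hLN _) (hokW W) (hm0 W W le_rfl) (cast_base (CM.id _) ?_)
    rw [resL_refl]
    rfl
  have m_trans : ∀ {W W' W'' : J} (h : W ≤ W') (h' : W' ≤ W''), m (h.trans h') = m h ≫ m h' := by
    intro W W' W'' h h'
    refine cm_uniq hA (hLN _) (hokW W) (hm0 W W'' (h.trans h')) (cast_base ((hm0 W W' h).comp (hm0 W' W'' h')) ?_)
    exact (resL_comp (show W.1 ≤ W'.1 from h) (show W'.1 ≤ W''.1 from h')).symm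
  obtain ⟨A, grpA, gl, hgl, hmg⟩ := exists_glue_grp 𝒰 X m hm m_refl m_trans
  -- `A` is an abelian scheme
  have hAbA : AgPol.IsAbSch A g := by
    refine hAb T.left A g U hU fun i => ?_
    let W : J := ⟨U i, i, le_rfl⟩
    obtain ⟨l, -, hl⟩ := (GM.bc (𝒰.f W) A).lift (g := 𝟙 _) (by
      rw [Category.id_comp]
      exact hgl W)
    obtain ⟨e, -, -⟩ := hl.exists_iso
    exact hAbI e (hokW W).ab
  have i1 := hAbA.proper
  have i2 := hAbA.smooth
  have i4 := hAbA.geomConnected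
  have i3 : GeometricallyIntegral A.hom := K814.AbBasic.geometricallyIntegral A
  have hM : Meet 𝒰 := dirU_meet U hU
  obtain ⟨c, hc1, hc2⟩ := exists_cls hM hmg hm hgl (fun W => (xW x W).c) (fun W => (hokW W).rig)
    (fun {W W'} h => (hm0 W W' h).cls)
  have hs : ∀ k : Fin (2 * g), ∃ s : 𝟙_ (Over T.left) ⟶ A, ∀ W : J, ((xW x W).σ k).left ≫ gl W = 𝒰.f W ≫ s.left := by
    intro k
    refine exists_sec hM hmg hgl (fun W => (xW x W).σ k) fun {W W'} h => ?_
    rw [← htr h]
    exact (hm0 W W' h).sec k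
  choose s hs using hs
  let y : Core T g := ⟨A, grpA, c, s⟩
  have hy : ∀ W : J, CM (resH T W.1).left (xW x W) y (gl W) := fun W =>
    ⟨hgl W, hc2 W, fun k => hs k W⟩
  refine ⟨y, hAbA, hc1, fun i => ?_⟩
  exact r_symm (r_trans (r_xW hr i) (CM.r (k := resH T (U i)) (hy ⟨U i, i, le_rfl⟩)))

end glue

end K540.Ag
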