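import Groth.Agent.AgPol.K540.CM

/-!
# Nodes of LAWS

The inputs of `Node.CoreLaws` which other seats may prove.
-/

set_option autoImplicit false
universe u

open CategoryTheory Limits MonoidalCategory CartesianMonoidalCategory AlgebraicGeometry
open scoped MonObj

namespace K540.Ag.Node

open K117.Ag Groth.Agent.Grpsch.PicGrp

/-- **AUT** admissible core families have no automorphisms. -/
def AutTriv (g d n : ℕ) : Prop :=
  ∀ {S : Scheme.{u}} (T : Over S) (x : Core T g), LN S T → Core.ok g d n T x → ∀ e : x.X ≅ x.X, IsMonHom e.hom →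
    pull e.hom.left x.c = x.c → (∀ i, x.σ i ≫ e.hom = x.σ i) → e.hom = 𝟙 x.X

/-- **ABLOCAL** being an abelian scheme is local on the base. -/
def AbLocal : Prop :=
  ∀ (T : Scheme.{u}) (A : Over T) [GrpObj A] (g : ℕ) {κ : Type u} (U : κ → T.Opens), (⨆ i, U i) = ⊤ →
    (∀ i, AgPol.IsAbSch (Red.bc (U i).ι A) g) → AgPol.IsAbSch A g

/-- **LEVLOCAL** being a level structure is local on the base. -/
def LevLocal : Prop :=
  ∀ (T : Scheme.{u}) (A : Over T) [GrpObj A] (g n : ℕ) {κ : Type u} (U : κ → T.Opens), (⨆ i, U i) = ⊤ →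
    ∀ σ : Fin (2 * g) → (𝟙_ (Over T) ⟶ A),
      (∀ i, AgPol.IsLevelStr (Red.bc (U i).ι A) g n (fun j => secBc (U i).ι (σ j))) → AgPol.IsLevelStr A g n σ

/-- **POLLOCAL** being a rigidified polarisation class of degree `d ^ 2` is local on the base. -/
def PolLocal : Prop :=
  ∀ (T : Scheme.{u}) [IsLocallyNoetherian T] (A : Over T) [GrpObj A] [IsCommMonObj A] (g d : ℕ), AgPol.IsAbSch A g →
    ∀ {κ : Type u} (U : κ → T.Opens), (⨆ i, U i) = ⊤ → ∀ c : Pic A.left,
      pull (η[A] : 𝟙_ (Over T) ⟶ A).left c = 1 →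
      (∀ i, IsPolCl (Red.bc (U i).ι A) d (pull (pullback.fst A.hom (U i).ι) c)) → IsPolCl A d c

/-- **LEVISO** level structures are invariant under isomorphisms of group schemes. -/
def LevIso : Prop :=
  ∀ (T : Scheme.{u}) (A B : Over T) [GrpObj A] [GrpObj B] (g n : ℕ) (e : A ≅ B) [IsMonHom e.hom]
    (σ : Fin (2 * g) → (𝟙_ (Over T) ⟶ A)), AgPol.IsLevelStr A g n σ → AgPol.IsLevelStr B g n (fun j => σ j ≫ e.hom)

end K540.Ag.Node
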