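import Groth.Agent.AgPol.K540.GlueCls
import Groth.Agent.AgPol.K540.LawNodes

/-!
# Cartesian morphisms of core families: uniqueness and locality

* `GM.of_local`, `cm_of_local` : being cartesian and multiplicative is local on the base;
* `cm_uniq` : uniqueness of cartesian morphisms from `Node.AutTriv`;
* `sep` : isomorphisms of admissible core families glue.
-/

set_option autoImplicit false
set_option linter.dupNamespace false
universe u

open CategoryTheory Limits MonoidalCategory CartesianMonoidalCategory AlgebraicGeometry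
open scoped MonObj

namespace K540.Ag

open K117.Ag Groth.Agent.Grpsch.PicGrp

theorem cov_pb {T : Scheme.{u}} {K : Type u} {V : K → Scheme.{u}} {v : ∀ k, V k ⟶ T}
    (hc : ∀ t : T, ∃ k, t ∈ Set.range (v k)) {Z : Scheme.{u}} (q : Z ⟶ T) (z : Z) :
    ∃ k, z ∈ Set.range (pullback.fst q (v k)) := by
  obtain ⟨j, y, hy⟩ := hc (q z)
  obtain ⟨w, hw, -⟩ := Scheme.Pullback.exists_preimage_pullback z y hy.symm
  exact ⟨j, w, hw⟩

/-- Being cartesian and multiplicative is local on the base. -/
theorem GM.of_local {T T' : Scheme.{u}} {f : T' ⟶ T} {X' : Over T'} {X : Over T} [GrpObj X'] [GrpObj X]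
    {m : X'.left ⟶ X.left} {K : Type u} {V : K → Scheme.{u}} {v : ∀ k, V k ⟶ T'} (hv : ∀ k, IsOpenImmersion (v k))
    (hc : ∀ t : T', ∃ k, t ∈ Set.range (v k))
    (h : ∀ k, GM (v k ≫ f) (Red.bc (v k) X') X (pullback.fst X'.hom (v k) ≫ m)) : GM f X' X m := by
  have hw : m ≫ X.hom = X'.hom ≫ f := by
    refine hom_ext_cov (fun k => pullback X'.hom (v k)) (fun k => pullback.fst X'.hom (v k)) (fun k => inferInstance)
      (cov_pb hc X'.hom) fun k => ?_
    have h1 := (h k).pb.w
    rw [Category.assoc] at h1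
    rw [h1, ← Category.assoc, ← Category.assoc, pullback.condition]
    rfl
  have huniq : ∀ {W : Scheme.{u}} (a b : W ⟶ X'.left), a ≫ m = b ≫ m → a ≫ X'.hom = b ≫ X'.hom → a = b := by
    intro W a b h1 h2
    refine hom_ext_cov (fun k => pullback (a ≫ X'.hom) (v k)) (fun k => pullback.fst (a ≫ X'.hom) (v k))
      (fun k => inferInstance) (cov_pb hc (a ≫ X'.hom)) fun k => ?_
    let a' : pullback (a ≫ X'.hom) (v k) ⟶ pullback X'.hom (v k) :=
      pullback.lift (pullback.fst _ _ ≫ a) (pullback.snd _ _) (by rw [Category.assoc, pullback.condition])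
    let b' : pullback (a ≫ X'.hom) (v k) ⟶ pullback X'.hom (v k) :=
      pullback.lift (pullback.fst _ _ ≫ b) (pullback.snd _ _) (by rw [Category.assoc, ← h2, pullback.condition])
    have ha : a' ≫ pullback.fst _ _ = pullback.fst _ _ ≫ a := pullback.lift_fst _ _ _
    have hb : b' ≫ pullback.fst _ _ = pullback.fst _ _ ≫ b := pullback.lift_fst _ _ _
    have hab : a' = b' := by
      apply (h k).pb.hom_ext
      · rw [← Category.assoc, ← Category.assoc]
        refine (congrArg (· ≫ m) ha).trans (Eq.trans ?_ (congrArg (· ≫ m) hb).symm)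
        rw [Category.assoc, Category.assoc, h1]
      · exact (pullback.lift_snd _ _ _).trans (pullback.lift_snd _ _ _).symm
    rw [← ha, ← hb, hab]
  have hex : ∀ {W : Scheme.{u}} (a : W ⟶ X.left) (q : W ⟶ T'), a ≫ X.hom = q ≫ f →
      ∃ l : W ⟶ X'.left, l ≫ m = a ∧ l ≫ X'.hom = q := by
    intro W a q haq
    have hk : ∀ k, (pullback.fst q (v k) ≫ a) ≫ X.hom = pullback.snd q (v k) ≫ v k ≫ f := fun k => by
      rw [Category.assoc, haq, ← Category.assoc, pullback.condition, Category.assoc]
    let l : ∀ k, pullback q (v k) ⟶ pullback X'.hom (v k) := fun k => (h k).pb.lift _ _ (hk k)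
    have l1 : ∀ k, (l k ≫ pullback.fst _ _) ≫ m = pullback.fst _ _ ≫ a := fun k => by
      rw [Category.assoc]
      exact (h k).pb.lift_fst _ _ (hk k)
    have l2 : ∀ k, (l k ≫ pullback.fst _ _) ≫ X'.hom = pullback.fst _ _ ≫ q := fun k => by
      have e : l k ≫ pullback.snd X'.hom (v k) = pullback.snd q (v k) := (h k).pb.lift_snd _ _ (hk k)
      rw [Category.assoc, pullback.condition, ← Category.assoc, e, pullback.condition]
    obtain ⟨z, hz⟩ := exists_glue (fun k => pullback q (v k)) (fun k => pullback.fst q (v k)) (fun k => inferInstance)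
      (cov_pb hc q) (fun k => l k ≫ pullback.fst _ _) (by
        intro i j W p p' hp
        apply huniq
        · rw [Category.assoc, l1, Category.assoc, l1, ← Category.assoc, hp, Category.assoc]
        · rw [Category.assoc, l2, Category.assoc, l2, ← Category.assoc, hp, Category.assoc])
    refine ⟨z, ?_, ?_⟩
    · refine hom_ext_cov (fun k => pullback q (v k)) (fun k => pullback.fst q (v k)) (fun k => inferInstance)
        (cov_pb hc q) fun k => ?_
      rw [← Category.assoc, hz, l1]
    · refine hom_ext_cov (fun k => pullback q (v k)) (fun k => pullback.fst q (v k)) (fun k => inferInstance)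
        (cov_pb hc q) fun k => ?_
      rw [← Category.assoc, hz, l2]
  have hpb : IsPullback m X'.hom X.hom f := by
    refine ⟨⟨hw⟩, ⟨PullbackCone.IsLimit.mk _ (fun s => (hex s.fst s.snd s.condition).choose)
      (fun s => (hex s.fst s.snd s.condition).choose_spec.1) (fun s => (hex s.fst s.snd s.condition).choose_spec.2)
      fun s l h1 h2 => ?_⟩⟩
    apply huniq
    · rw [h1, (hex s.fst s.snd s.condition).choose_spec.1]
    · rw [h2, (hex s.fst s.snd s.condition).choose_spec.2]
  refine ⟨hpb, fun {Z} q x y hx hy => ?_⟩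
  refine hom_ext_cov (fun k => pullback q (v k)) (fun k => pullback.fst q (v k)) (fun k => inferInstance)
    (cov_pb hc q) fun k => ?_
  have hlift : ∀ x : Z ⟶ X'.left, x ≫ X'.hom = q → ∃ x' : pullback q (v k) ⟶ (Red.bc (v k) X').left,
      x' ≫ pullback.fst X'.hom (v k) = pullback.fst q (v k) ≫ x ∧ x' ≫ (Red.bc (v k) X').hom = pullback.snd q (v k) := by
    intro x hx
    exact ⟨pullback.lift (pullback.fst _ _ ≫ x) (pullback.snd _ _) (by rw [Category.assoc, hx, pullback.condition]),
      pullback.lift_fst _ _ _, pullback.lift_snd _ _ _⟩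
  obtain ⟨x', hx1, hx2⟩ := hlift x hx
  obtain ⟨y', hy1, hy2⟩ := hlift y hy
  have e1 := (h k).mul _ x' y' hx2 hy2
  have e2 := (GM.bc (v k) X').mul _ x' y' hx2 hy2
  have e3 : pullback.fst q (v k) ≫ gm X' q x y hx hy =
      gm (Red.bc (v k) X') (pullback.snd q (v k)) x' y' hx2 hy2 ≫ pullback.fst X'.hom (v k) := by
    rw [e2, comp_gm]
    exact gm_congr (X := X') _ _ pullback.condition hx1.symm hy1.symm
  rw [← Category.assoc, e3, Category.assoc, e1, comp_gm]
  refine gm_congr (X := X) _ _ ?_ ?_ ?_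
  · rw [← Category.assoc, ← pullback.condition, Category.assoc]
  · rw [← Category.assoc, hx1, Category.assoc]
  · rw [← Category.assoc, hy1, Category.assoc]

variable {S : Scheme.{u}} {T T' T'' : Over S} {g d n : ℕ}

/-- Uniqueness of cartesian morphisms. -/
theorem cm_uniq (hA : Node.AutTriv.{u} g d n) {f : T'.left ⟶ T.left} {x' : Core T' g} {x : Core T g}
    (hT : LN S T') (hx : Core.ok g d n T' x') {m m' : x'.X.left ⟶ x.X.left} (h : CM f x' x m) (h' : CM f x' x m') :
    m = m' := by
  obtain ⟨l, h1, h2⟩ := h'.lift (f' := 𝟙 T'.left) (cast_base h (Category.id_comp f).symm)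
  obtain ⟨e, rfl, he⟩ := h2.gm.exists_iso
  have h3 := hA T' x' hT hx e he h2.cls fun i => by
    ext1
    exact (h2.sec i).trans (Category.id_comp _)
  rw [← h1, h3]
  exact Category.id_comp _

theorem rig_of_GM {f : T'.left ⟶ T.left} {x' : Core T' g} {x : Core T g} {m : x'.X.left ⟶ x.X.left}
    (h : GM f x'.X x.X m) (hx : pull (η[x.X] : 𝟙_ (Over T.left) ⟶ x.X).left x.c = 1) :
    pull (η[x'.X] : 𝟙_ (Over T'.left) ⟶ x'.X).left (pull m x.c) = 1 := by
  rw [← pull_comp, h.eta, pull_comp, hx, map_one]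

/-- Being a cartesian morphism is local on the base. -/
theorem cm_of_local {f : T'.left ⟶ T.left} {x' : Core T' g} {x : Core T g} {m : x'.X.left ⟶ x.X.left}
    [IsProper x'.X.hom] [Flat x'.X.hom] [LocallyOfFinitePresentation x'.X.hom] [GeometricallyIntegral x'.X.hom]
    (h1 : pull (η[x'.X] : 𝟙_ (Over T'.left) ⟶ x'.X).left x'.c = 1)
    (h2 : pull (η[x.X] : 𝟙_ (Over T.left) ⟶ x.X).left x.c = 1)
    {K : Type u} {V : K → Over S} {v : ∀ k, V k ⟶ T'} (hv : ∀ k, IsOpenImmersion (v k).left)
    (hc : ∀ t : T'.left, ∃ k, t ∈ Set.range (v k).left)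
    (h : ∀ k, CM ((v k).left ≫ f) (x'.pull (v k)) x (pullback.fst x'.X.hom (v k).left ≫ m)) : CM f x' x m := by
  have hg : GM f x'.X x.X m := GM.of_local hv hc fun k => (h k).gm
  refine ⟨hg, ?_, fun i => ?_⟩
  · refine cls_ext (A := x'.X) (fun k => (V k).left) (fun k => (v k).left) hv hc (rig_of_GM hg h2) h1 fun k => ?_
    rw [← pull_comp]
    exact (h k).cls
  · refine hom_ext_cov (fun k => (V k).left) (fun k => (v k).left) hv hc fun k => ?_
    have h3 := (h k).sec i
    have h4 := (CM.pull (v k) x').sec i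
    exact (Category.assoc _ _ _).symm.trans ((congrArg (· ≫ m) h4.symm).trans
      ((Category.assoc _ _ _).trans (h3.trans (Category.assoc _ _ _))))

/-- Restrictions of cartesian morphisms. -/
theorem cm_res {f : T'.left ⟶ T.left} {x' : Core T' g} {x : Core T g} {m : x'.X.left ⟶ x.X.left} (h : CM f x' x m)
    (k : T'' ⟶ T') : CM (k.left ≫ f) (x'.pull k) x (pullback.fst x'.X.hom k.left ≫ m) := (CM.pull k x').comp h

/-- Cartesian morphisms glue. -/
theorem cm_glue (hA : Node.AutTriv.{u} g d n) (hok : ∀ {T T' : Over S} (k : T' ⟶ T) (x : Core T g), LN S T →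
      LN S T' → Core.ok g d n T x → Core.ok g d n T' (x.pull k)) {f : T'.left ⟶ T.left} {x' : Core T' g} {x : Core T g}
    (hT : LN S T') (hx' : Core.ok g d n T' x') (h2 : pull (η[x.X] : 𝟙_ (Over T.left) ⟶ x.X).left x.c = 1)
    (h : ∀ t : T'.left, ∃ U : T'.left.Opens, t ∈ U ∧ ∃ m, CM (U.ι ≫ f) (x'.pull (resH T' U)) x m) :
    ∃ m, CM f x' x m := by
  choose U hU m hm using h
  have hLN : ∀ U : T'.left.Opens, LN S (resO T' U) := fun U => inferInstanceAs (IsLocallyNoetherian U.toScheme)
  have hc : ∀ t : T'.left, ∃ k : T'.left, t ∈ Set.range (U k).ι := fun t => ⟨t, by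
    rw [Scheme.Opens.range_ι]
    exact hU t⟩
  obtain ⟨z, hz⟩ := exists_glue (Z := x'.X.left) (Y := x.X.left) (fun t => pullback x'.X.hom (U t).ι)
    (fun t => pullback.fst x'.X.hom (U t).ι) (fun t => inferInstance) (cov_pb hc x'.X.hom) m (by
      intro i j W p q hpq
      -- restrictions to the intersection
      have key : ∀ (V : T'.left.Opens) (i : T'.left) (hV : V ≤ U i) (W : Scheme.{u})
          (p : W ⟶ pullback x'.X.hom (U i).ι) (s : W ⟶ pullback x'.X.hom V.ι),
          s ≫ pullback.fst _ _ = p ≫ pullback.fst _ _ →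
          ∃ n, CM (V.ι ≫ f) (x'.pull (resH T' V)) x n ∧ s ≫ n = p ≫ m i := by
        intro V i hV W p s hs
        have e : (resH T' V).left = (resL T' hV).left ≫ (resH T' (U i)).left := (T'.left.homOfLE_ι hV).symm
        obtain ⟨l, hl1, hl2⟩ := (CM.pull (resH T' (U i)) x').lift (f' := (resL T' hV).left)
          (cast_base (CM.pull (resH T' V) x') e)
        refine ⟨l ≫ m i, cast_base (hl2.comp (hm i)) ?_, ?_⟩
        · exact (Category.assoc _ _ _).symm.trans (congrArg (· ≫ f) e.symm)
        · refine (Category.assoc _ _ _).symm.trans (congrArg (· ≫ m i) ?_)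
          have : Mono (pullback.fst x'.X.hom (U i).ι) := inferInstance
          refine (cancel_mono (pullback.fst x'.X.hom (U i).ι)).1 ?_
          exact (Category.assoc _ _ _).trans ((congrArg (s ≫ ·) hl1).trans hs)
      have hr : ∃ s : W ⟶ pullback x'.X.hom (U i ⊓ U j).ι, s ≫ pullback.fst _ _ = p ≫ pullback.fst _ _ := by
        have hsub : Set.range (p ≫ pullback.fst _ _ ≫ x'.X.hom) ⊆ Set.range (U i ⊓ U j).ι := by
          rintro _ ⟨w, rfl⟩
          rw [Scheme.Opens.range_ι]
          constructor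
          · have : (p ≫ pullback.fst _ _ ≫ x'.X.hom) w ∈ Set.range (U i).ι := by
              rw [pullback.condition]
              exact ⟨(p ≫ pullback.snd _ _) w, by simp only [Scheme.Hom.comp_apply]⟩
            rwa [Scheme.Opens.range_ι] at this
          · have : (p ≫ pullback.fst _ _ ≫ x'.X.hom) w ∈ Set.range (U j).ι := by
              rw [← Category.assoc, hpq, Category.assoc, pullback.condition]
              exact ⟨(q ≫ pullback.snd _ _) w, by simp only [Scheme.Hom.comp_apply]⟩
            rwa [Scheme.Opens.range_ι] at this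
        exact ⟨pullback.lift (p ≫ pullback.fst _ _) (IsOpenImmersion.lift _ _ hsub) (by
          rw [IsOpenImmersion.lift_fac, Category.assoc]), pullback.lift_fst _ _ _⟩
      obtain ⟨s, hs⟩ := hr
      obtain ⟨n1, hn1, hn1'⟩ := key (U i ⊓ U j) i inf_le_left W p s hs
      obtain ⟨n2, hn2, hn2'⟩ := key (U i ⊓ U j) j inf_le_right W q s (hs.trans hpq)
      rw [← hn1', ← hn2']
      rw [cm_uniq hA (hLN _) (hok (resH T' (U i ⊓ U j)) x' hT (hLN _) hx') hn1 hn2])
  have i1 := hx'.ab.proper
  have i2 := hx'.ab.smooth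
  have i4 := hx'.ab.geomConnected
  have i3 : GeometricallyIntegral x'.X.hom := K814.AbBasic.geometricallyIntegral x'.X
  refine ⟨z, cm_of_local (V := fun t : T'.left => resO T' (U t)) (v := fun t => resH T' (U t)) hx'.rig h2
    (fun t => inferInstanceAs (IsOpenImmersion (U t).ι)) hc fun t => ?_⟩
  have e : pullback.fst x'.X.hom (resH T' (U t)).left ≫ z = m t := hz t
  have h1 : CM ((resH T' (U t)).left ≫ f) (x'.pull (resH T' (U t))) x (m t) := hm t
  exact Eq.mp (congrArg (fun z => CM ((resH T' (U t)).left ≫ f) (x'.pull (resH T' (U t))) x z) e.symm) h1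

/-- **SEP.** -/
theorem sep (hA : Node.AutTriv.{u} g d n) (hok : ∀ {T T' : Over S} (k : T' ⟶ T) (x : Core T g), LN S T →
      LN S T' → Core.ok g d n T x → Core.ok g d n T' (x.pull k)) (T : Over S) (x y : Core T g) (hT : LN S T)
    (hx : Core.ok g d n T x) (hy : Core.ok g d n T y)
    (h : ∀ t : T.left, ∃ U : T.left.Opens, t ∈ U ∧ Core.r _ (x.pull (resH T U)) (y.pull (resH T U))) :
    Core.r T x y := by
  rw [r_iff]
  refine cm_glue hA hok hT hx hy.rig fun t => ?_
  obtain ⟨U, hU, hr⟩ := h t
  obtain ⟨m, hm⟩ := CM.of_r hr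
  exact ⟨U, hU, m, cast_base hm (Category.comp_id _).symm⟩

end K540.Ag
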