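import Groth.Agent.AgPol.K540.Rig3Field
import Groth.Agent.AgPol.K540.Laws
import Groth.Agent.AbVar.K515.PolFin
import Groth.Agent.AbVar.K516.PosForm
import Groth.Agent.AgPol.K399.LevLoc
import Groth.Agent.AgPol.K515.RankPol
import Groth.Agent.AbSch.K448.RigidityMain

/-!
# Rigidity of core families of level `n ≥ 3`

`autTriv : 3 ≤ n → Node.AutTriv g d n` : admissible core families of level `n ≥ 3` have no automorphisms.
-/

set_option autoImplicit false
set_option linter.dupNamespace false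
universe u

open CategoryTheory Limits MonoidalCategory CartesianMonoidalCategory AlgebraicGeometry
open scoped MonObj

namespace K540.Ag.Rig3

open K117.Ag Groth.Agent.Grpsch.PicGrp

/-- An automorphism fixing the level structure fixes the torsion points. -/
theorem fix_tors {S : Scheme.{u}} (X : Over S) [GrpObj X] {g n : ℕ} (σ : Fin (2 * g) → (𝟙_ (Over S) ⟶ X))
    (hlev : AgPol.IsLevelStr X g n σ) (e : X ⟶ X) [IsMonHom e] (hσ : ∀ i, σ i ≫ e = σ i) {Ω : Type u} [Field Ω]
    [IsAlgClosed Ω] (t : Spec (CommRingCat.of Ω) ⟶ S) (x : Over.mk t ⟶ X) (hx : x ^ n = 1) : x ≫ e = x := by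
  have hx' := hx
  clear hx
  have h1 : x ∈ Subgroup.closure (Set.range fun i => toUnit (Over.mk t) ≫ σ i) := by
    have h2 := (hlev.2 Ω t).1
    have h3 : x ∈ (Subgroup.closure (Set.range fun i => toUnit (Over.mk t) ≫ σ i) : Set (Over.mk t ⟶ X)) := by
      rw [h2]
      exact hx'
    exact h3
  clear hx'
  induction h1 using Subgroup.closure_induction with
  | mem y hy =>
    obtain ⟨i, rfl⟩ := hy
    rw [Category.assoc, hσ]
  | one => exact MonObj.one_comp e
  | mul y z _ _ hy hz => rw [MonObj.mul_comp, hy, hz]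
  | inv y _ hy => rw [GrpObj.inv_comp, hy]

/-- The field case of rigidity for core families. -/
theorem field_core {g d n : ℕ} (hn : 3 ≤ n) {Ω : Type u} [Field Ω] [IsAlgClosed Ω]
    (A : Over (Spec (CommRingCat.of Ω))) [GrpObj A] (hab : AgPol.IsAbSch A g) {c : Pic A.left} (hP : IsPolCl A d c)
    {σ : Fin (2 * g) → (𝟙_ (Over (Spec (CommRingCat.of Ω))) ⟶ A)} (hlev : AgPol.IsLevelStr A g n σ) (e : A ≅ A)
    [IsMonHom e.hom] (hc : pull e.hom.left c = c) (hσ : ∀ i, σ i ≫ e.hom = σ i) : e.hom = 𝟙 A := by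
  have i1 : Smooth A.hom := hab.smooth
  have i2 : IsProper A.hom := hab.proper
  have i3 : GeometricallyConnected A.hom := hab.geomConnected
  have i4 : GeometricallyIntegral A.hom := K814.AbBasic.geometricallyIntegral A
  have i5 : IsCommMonObj A := K814.AbBasic.isCommMonObj A
  by_cases hg : g = 0
  · subst hg
    have hdim : topologicalKrullDim A.left = ((0 : ℕ) : WithBot ℕ∞) := K515.RankPol.krullDim hab
    have h1 : e.hom = 1 := K516.PosForm.eq_one_of_dim_zero (A := A) (B := A) hdim e.hom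
    have h2 : 𝟙 A = 1 := K516.PosForm.eq_one_of_dim_zero (A := A) (B := A) hdim (𝟙 A)
    exact h1.trans h2.symm
  · obtain ⟨At, gAt, cAt, φ, ξ, lam, hD, h1, h2, h3, hpol, hdeg, hcc⟩ := hP
    obtain ⟨M, hM, hMc⟩ := exists_mk c
    have hamp : CohB1.IsAmple M := K515.PolFin.ample_M hD h1 h2 h3 hpol M hM (hMc.symm.trans hcc)
    refine field_case A M hamp e ?_ hn ?_ ?_
    · have h4 : mk M hamp.1 = c := hMc.symm
      rw [h4]
      exact hc
    · refine (K399.LevLoc.card_iff A g n (Nat.pos_of_ne_zero hg) (by omega) hab Ω (𝟙 _)).1 ?_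
      exact (hlev.2 Ω (𝟙 _)).2
    · intro x hx
      exact fix_tors A σ hlev e.hom hσ _ x hx

variable {S : Scheme.{u}} {T : Over S} {g d n : ℕ}

/-- Geometric points are fixed. -/
theorem fix_geom (hn : 3 ≤ n) {x : Core T g} (hx : Core.ok g d n T x) (e : x.X ≅ x.X) (he : IsMonHom e.hom)
    (hc : pull e.hom.left x.c = x.c) (hσ : ∀ i, x.σ i ≫ e.hom = x.σ i) {Ω : Type u} [Field Ω] [IsAlgClosed Ω]
    (z : Spec (CommRingCat.of Ω) ⟶ x.X.left) : z ≫ e.hom.left = z := by
  let t : Spec (CommRingCat.of Ω) ⟶ T.left := z ≫ x.X.hom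
  let k : Over.mk (t ≫ T.hom) ⟶ T := Over.homMk t rfl
  have h1 : CM (𝟙 T.left) x x e.hom.left := ⟨GM.ofIso e, hc, fun i => by
    rw [← Over.comp_left, hσ]
    exact (Category.id_comp _).symm⟩
  have h2 := cast_base ((CM.pull k x).comp h1) (Category.comp_id _)
  obtain ⟨l, hl1, hl2⟩ := (CM.pull k x).lift (f' := 𝟙 _) (cast_base h2 (Category.id_comp _).symm)
  obtain ⟨e', rfl, he'⟩ := hl2.gm.exists_iso
  have hok := pull_ok k x hx
  have h3 : e'.hom = 𝟙 _ := @field_core g d n hn Ω _ _ (x.pull k).X (x.pull k).grp hok.ab (x.pull k).c hok.pol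
    (x.pull k).σ hok.level e' he' hl2.cls fun i => by
      ext1
      exact (hl2.sec i).trans (Category.id_comp _)
  have h4 : pullback.fst x.X.hom k.left ≫ e.hom.left = pullback.fst x.X.hom k.left := by
    refine hl1.symm.trans ?_
    rw [h3]
    exact Category.id_comp _
  have h5 : pullback.lift (f := x.X.hom) (g := k.left) z (𝟙 _) (Category.id_comp _).symm ≫ pullback.fst x.X.hom k.left = z :=
    pullback.lift_fst _ _ _
  rw [← h5, Category.assoc, h4]

/-- **RIG3.** Admissible core families of level `n ≥ 3` have no automorphisms. -/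
theorem autTriv (hn : 3 ≤ n) : Node.AutTriv.{u} g d n := by
  intro S T x hT hx e he hc hσ
  have hab := hx.ab
  have i1 := hab.smooth
  have i2 := hab.proper
  have i3 := hab.geomConnected
  have i4 : GeometricallyIntegral x.X.hom := K814.AbBasic.geometricallyIntegral x.X
  have i5 := Groth.Agent.Flat2B.SmoothGeom.geometricallyReduced_of_smooth x.X.hom
  have i6 : IsCommMonObj x.X := K814.AbBasic.isCommMonObj x.X
  let f : x.X ⟶ x.X := e.hom / 𝟙 x.X
  have hf : ∀ {W : Over T.left} (w : W ⟶ x.X), w ≫ f = (w ≫ e.hom) / w := fun w => by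
    change w ≫ (e.hom / 𝟙 x.X) = _
    rw [div_eq_mul_inv, div_eq_mul_inv, MonObj.comp_mul, GrpObj.comp_inv, Category.comp_id]
  have key : ∀ w : x.X.left, f.left w = (η[x.X] : 𝟙_ (Over T.left) ⟶ x.X).left (x.X.hom w) := by
    intro w
    obtain ⟨Ω, _, _, z, y, hy⟩ := K399.LevMain.exists_geom w
    have h1 : z ≫ e.hom.left = z := fix_geom hn hx e he hc hσ z
    let zz : Over.mk (z ≫ x.X.hom) ⟶ x.X := Over.homMk z rfl
    have h2 : zz ≫ e.hom = zz := by
      ext1
      exact h1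
    have h3 : zz ≫ f = 1 := by rw [hf, h2, div_self']
    have h4 : z ≫ f.left = (z ≫ x.X.hom) ≫ (η[x.X] : 𝟙_ (Over T.left) ⟶ x.X).left := by
      have h5 := congrArg (fun t => t.left) h3
      refine h5.trans ?_
      change (1 : Over.mk (z ≫ x.X.hom) ⟶ x.X).left = _
      rw [Hom.one_def, Over.comp_left]
      congr 1
    rw [← hy, ← Scheme.Hom.comp_apply, h4, Scheme.Hom.comp_apply, Scheme.Hom.comp_apply]
  obtain ⟨k, hk, -⟩ := K448.RigidityMain.existsUnique_factor x.X.hom f.left (fun t => by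
    rintro _ ⟨a, ha, rfl⟩ _ ⟨b, hb, rfl⟩
    rw [key, key, ha, hb])
  have hη : (η[x.X] : 𝟙_ (Over T.left) ⟶ x.X) ≫ f = η[x.X] := by
    rw [hf, IsMonHom.one_hom, div_self', Hom.one_def, toUnit_unique (toUnit _) (𝟙 _), Category.id_comp]
  have hk' : k = (η[x.X] : 𝟙_ (Over T.left) ⟶ x.X).left := by
    have h1 : (η[x.X] : 𝟙_ (Over T.left) ⟶ x.X).left ≫ x.X.hom = 𝟙 _ := Over.w η[x.X]
    have h2 := congrArg ((η[x.X] : 𝟙_ (Over T.left) ⟶ x.X).left ≫ ·) hk
    have h3 : (η[x.X] : 𝟙_ (Over T.left) ⟶ x.X).left ≫ x.X.hom ≫ k = k :=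
      (Category.assoc _ _ _).symm.trans ((congrArg (· ≫ k) h1).trans (Category.id_comp k))
    exact h3.symm.trans (h2.trans (congrArg (fun t => t.left) hη))
  have hf1 : f = 1 := by
    ext1
    rw [← hk, hk', Hom.one_def, Over.comp_left]
    congr 1
  have h1 : e.hom = f * 𝟙 x.X := (div_mul_cancel e.hom (𝟙 x.X)).symm
  rw [h1, hf1, one_mul]

end K540.Ag.Rig3
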