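import Groth.Agent.AgPol.K540.SerreAlg
import Groth.Agent.AbVar.K519.FinAut
import Groth.Agent.AbVar.K515.Integral
import Groth.Agent.AbVar.K510.TateHom

/-!
# Serre's lemma over an algebraically closed field

`field_case` : an automorphism of an abelian variety preserving the class of an ample module and the `n`-torsion points,
`3 ≤ n` invertible, is the identity.
-/

set_option autoImplicit false
set_option linter.dupNamespace false
universe u

open CategoryTheory Limits MonoidalCategory CartesianMonoidalCategory AlgebraicGeometry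
open scoped MonObj

namespace K540.Ag.Rig3

open Groth.Agent.Grpsch.PicGrp Groth.Agent.Pic13.H138.AlgEquiv Groth.Agent.Fdesc.LocGen

variable {k : Type u} [Field k] [IsAlgClosed k] (A : Over (Spec (CommRingCat.of k))) [GrpObj A] [IsCommMonObj A]
  [IsProper A.hom] [GeometricallyIntegral A.hom]

omit [IsAlgClosed k] [IsProper A.hom] [GeometricallyIntegral A.hom] in
variable {A} in
/-- Units of `End A` are isomorphisms. -/
theorem isIso_of_isUnit {f : EndAV.End A} (hf : IsUnit f) : IsIso f.toHom := by
  obtain ⟨u, rfl⟩ := hf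
  refine ⟨EndAV.End.toHom (↑u⁻¹ : EndAV.End A), ?_, ?_⟩
  · have h : (↑u⁻¹ : EndAV.End A) * (↑u : EndAV.End A) = 1 := u.inv_mul
    exact congrArg EndAV.End.toHom h
  · have h : (↑u : EndAV.End A) * (↑u⁻¹ : EndAV.End A) = 1 := u.mul_inv
    exact congrArg EndAV.End.toHom h

omit [IsAlgClosed k] [IsProper A.hom] [GeometricallyIntegral A.hom] in
variable {A} in
/-- Powers of an endomorphism preserving a class preserve it. -/
theorem pull_pow {f : EndAV.End A} {c : Pic A.left} (h : pull f.toHom.left c = c) (i : ℕ) :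
    pull (EndAV.End.toHom (f ^ i)).left c = c := by
  induction i with
  | zero =>
    rw [pow_zero]
    exact pull_id _
  | succ i ih =>
    rw [pow_succ]
    have e : (EndAV.End.toHom (f ^ i * f)).left = f.toHom.left ≫ (EndAV.End.toHom (f ^ i)).left := rfl
    rw [e, pull_comp, ih, h]

variable {A} in
/-- Automorphisms preserving the class of an ample module have finite order. -/
theorem exists_pow_eq_one (L : A.left.Modules) (hL : CohB1.IsAmple L) {f : EndAV.End A} (hf : IsUnit f)
    (h : pull f.toHom.left (mk L hL.1) = mk L hL.1) : ∃ N : ℕ, 0 < N ∧ f ^ N = 1 := by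
  have hfin := K519.FinAut.finite L hL
  have hmem : ∀ i : ℕ, EndAV.End.toHom (f ^ i) ∈ {α : A ⟶ A | IsMonHom α ∧ IsIso α ∧
      ∃ (m m' : ℕ) (N : A.left.Modules), 0 < m ∧ 0 < m' ∧ PicF.IsInvertible N ∧ Pic13.IsAlgEquivZero k A.left N ∧
        Nonempty (CohB1.tensorMod (CohB1.tensorPow ((Scheme.Modules.pullback α.left).obj L) m') N ≅
          CohB1.tensorPow L m)} := by
    intro i
    refine ⟨inferInstance, isIso_of_isUnit (hf.pow i), 1, 1, Coh.structureModule A.left, one_pos, one_pos,
      isInvertible_structureModule, ?_, ?_⟩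
    · exact (isAlgEquivZero_iff_mem (k := k) isInvertible_structureModule).2 (one_mem _)
    · have hp := Groth.Agent.Fdesc.LocGen.isInvertible_pullback (EndAV.End.toHom (f ^ i)).left hL.1
      have hp1 := isInvertible_tensorPow hp 1
      have e1 : mk _ (isInvertible_tensorMod hp1 isInvertible_structureModule) = mk _ (isInvertible_tensorPow hL.1 1) := by
        rw [← mk_mul_mk hp1 isInvertible_structureModule, mk_tensorPow hp, mk_tensorPow hL.1, pow_one, pow_one,
          ← pull_mk _ hL.1, pull_pow h i]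
        exact mul_one _
      exact (mk_eq_iff _ _).1 e1
  have hfin' := hfin.subset (Set.range_subset_iff.2 hmem)
  obtain ⟨i, j, hij, he⟩ : ∃ i j : ℕ, i < j ∧ EndAV.End.toHom (f ^ i) = EndAV.End.toHom (f ^ j) := by
    by_contra hne
    push Not at hne
    refine Set.infinite_range_of_injective (fun i j hij => ?_) hfin'
    by_contra h1
    rcases Nat.lt_or_gt_of_ne h1 with h2 | h2
    · exact hne i j h2 hij
    · exact hne j i h2 hij.symm
  have he' : f ^ i = f ^ j := EndAV.End.ext he
  refine ⟨j - i, by omega, ?_⟩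
  have h1 : f ^ j = f ^ (j - i) * f ^ i := by rw [← pow_add, Nat.sub_add_cancel hij.le]
  rw [h1] at he'
  exact ((hf.pow i).mul_right_cancel (he'.symm.trans (one_mul _).symm))

/-- **Serre's lemma.** -/
theorem field_case (L : A.left.Modules) (hL : CohB1.IsAmple L) (e : A ≅ A) [IsMonHom e.hom]
    (h : pull e.hom.left (mk L hL.1) = mk L hL.1) {n : ℕ} (hn : 3 ≤ n) (hnk : (n : k) ≠ 0)
    (htor : ∀ x : SGA7.Pts k A, x ^ n = 1 → x ≫ e.hom = x) : e.hom = 𝟙 A := by
  have i1 : IsMonHom e.inv := inferInstance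
  let f : EndAV.End A := EndAV.End.of e.hom
  let f' : EndAV.End A := EndAV.End.of e.inv
  have hff' : f * f' = 1 := EndAV.End.ext e.inv_hom_id
  have hf'f : f' * f = 1 := EndAV.End.ext e.hom_inv_id
  have hf : IsUnit f := ⟨⟨f, f', hff', hf'f⟩, rfl⟩
  obtain ⟨N, hN, hfN⟩ := exists_pow_eq_one L hL hf h
  obtain ⟨φ, hφ1, hφ2⟩ := K515.Integral.exists_desc k A A (EndAV.End.toHom (f - 1)) n hnk (fun x hx => by
    have h1 : x ≫ EndAV.End.toHom (f - 1) = (x ≫ e.hom) / (x ≫ 𝟙 A) := by
      change x ≫ (e.hom / 𝟙 A) = _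
      rw [div_eq_mul_inv, div_eq_mul_inv, MonObj.comp_mul, GrpObj.comp_inv]
    rw [h1, htor x hx, Category.comp_id, div_self'])
  have hβ : f = 1 + (n : EndAV.End A) * EndAV.End.of φ := by
    have h2 : EndAV.End.of φ * (n : EndAV.End A) = f - 1 := by
      apply EndAV.End.ext
      refine Eq.trans ?_ hφ2
      change EndAV.End.toHom (n : EndAV.End A) ≫ φ = _
      rw [EndAV.End.toHom_natCast]
    rw [(Nat.cast_commute n (EndAV.End.of φ)).eq, h2]
    abel
  have hfg : Module.Finite ℤ (EndAV.End A) := K510.TateHom.finite_hom A A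
  have h3 := SerreAlg.eq_one_of_pow (R := EndAV.End A)
    (fun m r hm hr => K510.TateHom.eq_zero_of_zsmul (A := A) (B := A) hm hr) hn hβ hN hfN
  exact congrArg EndAV.End.toHom h3

end K540.Ag.Rig3
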