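import Mathlib.LinearAlgebra.FreeModule.PID
import Mathlib.RingTheory.Adjoin.Basic
import Mathlib.Data.Nat.Choose.Dvd
import Mathlib.Algebra.Order.Ring.Int
import Mathlib.Data.Nat.Choose.Sum
import Mathlib.Algebra.EuclideanDomain.Int
import Mathlib.RingTheory.PrincipalIdealDomain
import Mathlib.RingTheory.Noetherian.Basic
import Mathlib.Tactic.LinearCombination
import Mathlib.Algebra.Ring.GeomSum

/-!
# Elements of finite order congruent to `1` modulo `n ≥ 3`

`eq_one_of_pow` : `R` a ring, finite and torsion-free over `ℤ`, `α = 1 + n β` with `3 ≤ n` and `α ^ N = 1`, `0 < N`: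
`α = 1`.
-/

set_option autoImplicit false
set_option linter.dupNamespace false

namespace K540.Ag.SerreAlg

section inter

variable {R : Type*} [Ring R] [Module.Finite ℤ R] (htf : ∀ (m : ℤ) (r : R), m ≠ 0 → m • r = 0 → r = 0)

include htf in
/-- Elements divisible by all powers of `q` are zero. -/
theorem eq_zero_of_dvd {q : ℕ} (hq : 2 ≤ q) (b : R) (h : ∀ k : ℕ, ∃ d : R, b = (q : R) ^ k * d) : b = 0 := by
  have : Module.IsTorsionFree ℤ R := by
    rw [Module.isTorsionFree_iff_smul_eq_zero]
    intro m r h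
    by_cases hm : m = 0
    · exact Or.inl hm
    · exact Or.inr (htf m r hm h)
  let B := Module.Free.chooseBasis ℤ R
  rw [← B.forall_coord_eq_zero_iff]
  intro i
  have h1 : ∀ k : ℕ, (q : ℤ) ^ k ∣ B.coord i b := by
    intro k
    obtain ⟨d, hd⟩ := h k
    refine ⟨B.coord i d, ?_⟩
    have h2 : b = ((q : ℤ) ^ k) • d := by
      rw [hd, zsmul_eq_mul]
      push_cast
      rfl
    rw [h2, map_zsmul, smul_eq_mul]
  by_contra hne
  obtain ⟨k, hk⟩ : ∃ k : ℕ, |B.coord i b| < (q : ℤ) ^ k := by
    refine ⟨(B.coord i b).natAbs, ?_⟩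
    rw [Int.abs_eq_natAbs]
    exact_mod_cast Nat.lt_pow_self (by omega)
  exact hne (Int.eq_zero_of_abs_lt_dvd (h1 k) hk)

include htf in
/-- `c b = q u b` with `c` prime to `q ≥ 2` implies `b = 0`. -/
theorem eq_zero_of_eq {c q : ℕ} (hq : 2 ≤ q) (hcq : Nat.Coprime c q) (b u : R) (h : (c : R) * b = (q : R) * u * b) :
    b = 0 := by
  refine eq_zero_of_dvd htf hq b fun k => ?_
  induction k with
  | zero => exact ⟨b, by simp⟩
  | succ k ih =>
    obtain ⟨d, hd⟩ := ih
    have hbez : (1 : ℤ) = c * Nat.gcdA c q + q * Nat.gcdB c q := by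
      have := Nat.gcd_eq_gcd_ab c q
      rw [hcq.gcd_eq_one] at this
      exact_mod_cast this
    have hb : b = (Nat.gcdA c q : R) * ((c : R) * b) + (Nat.gcdB c q : R) * ((q : R) * b) := by
      have h1 : ((1 : ℤ) : R) = (c : R) * (Nat.gcdA c q : R) + (q : R) * (Nat.gcdB c q : R) := by
        rw [hbez]
        push_cast
        rfl
      calc b = ((1 : ℤ) : R) * b := by simp
        _ = _ := by
          rw [h1, add_mul, (Nat.cast_commute c _).eq, (Nat.cast_commute q _).eq, mul_assoc, mul_assoc]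
    refine ⟨(Nat.gcdA c q : R) * u * d + (Nat.gcdB c q : R) * d, ?_⟩
    have hc1 : ∀ x : R, (q : R) ^ k * x = x * (q : R) ^ k := fun x => ((Nat.cast_commute q x).pow_left k).eq
    have hc2 : ∀ x : R, (q : R) * x = x * (q : R) := fun x => (Nat.cast_commute q x).eq
    calc b = (Nat.gcdA c q : R) * ((q : R) * u * b) + (Nat.gcdB c q : R) * ((q : R) * b) := by
          rw [← h]
          exact hb
      _ = (Nat.gcdA c q : R) * ((q : R) * u * ((q : R) ^ k * d)) + (Nat.gcdB c q : R) * ((q : R) * ((q : R) ^ k * d)) := by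
          rw [← hd]
      _ = (q : R) ^ (k + 1) * ((Nat.gcdA c q : R) * u * d + (Nat.gcdB c q : R) * d) := by
          rw [pow_succ', mul_add, mul_assoc (q : R) u, ← mul_assoc u, ← hc1 u, mul_assoc ((q : R) ^ k) u d,
            ← mul_assoc (Nat.gcdA c q : R) (q : R), ← hc2, ← mul_assoc (Nat.gcdB c q : R) (q : R), ← hc2]
          simp only [mul_assoc]
          rw [← mul_assoc (Nat.gcdA c q : R), ← hc1 (Nat.gcdA c q : R), ← mul_assoc (Nat.gcdB c q : R),
            ← hc1 (Nat.gcdB c q : R)]
          simp only [mul_assoc]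

end inter

section prime

variable {A : Type*} [CommRing A] [Module.Finite ℤ A] (htf : ∀ (m : ℤ) (r : A), m ≠ 0 → m • r = 0 → r = 0)

omit [Module.Finite ℤ A] in
include htf in
theorem nat_mul_eq_zero {m : ℕ} (hm : m ≠ 0) {r : A} (h : (m : A) * r = 0) : r = 0 :=
  htf m r (by exact_mod_cast hm) (by
    rw [zsmul_eq_mul]
    push_cast
    exact h)

include htf in
theorem prime_aux {p n : ℕ} (hp2 : 2 ≤ p) (hn : 1 ≤ n) {c q e : ℕ} (hq : 2 ≤ q) (hcq : Nat.Coprime c q)
    (hpe : p = e * c) (hdiv : ∀ k < p - 1, e * q ∣ p.choose (k + 2) * n ^ (k + 1)) {b : A} (h : (1 + (n : A) * b) ^ p = 1) :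
    b = 0 := by
  choose d hd using fun k : {k // k < p - 1} => hdiv k.1 k.2
  let D : ℕ → ℕ := fun k => if hk : k < p - 1 then d ⟨k, hk⟩ else 0
  have hD : ∀ k < p - 1, p.choose (k + 2) * n ^ (k + 1) = e * q * D k := fun k hk => by
    simp only [D, dif_pos hk]
    exact hd ⟨k, hk⟩
  have h1 : (1 + (n : A) * b) ^ p = 1 + (n : A) * ((p : A) * b + (e : A) * q * (∑ k ∈ Finset.range (p - 1), (D k : A) * b ^ (k + 1)) * b) := by
    rw [add_comm, add_pow]
    have e1 : p + 1 = (p - 1) + 1 + 1 := by omega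
    rw [e1, Finset.sum_range_succ', Finset.sum_range_succ']
    simp only [one_pow, mul_one, zero_add, pow_one, pow_zero, Nat.choose_zero_right, Nat.cast_one]
    rw [Nat.choose_one_right]
    have e2 : ∑ k ∈ Finset.range (p - 1), ((n : A) * b) ^ (k + 1 + 1) * ((p.choose (k + 1 + 1) : ℕ) : A) =
        ∑ k ∈ Finset.range (p - 1), (n : A) * ((e : A) * q * ((D k : A) * b ^ (k + 1)) * b) := by
      refine Finset.sum_congr rfl fun k hk => ?_
      have e3 := congrArg (Nat.cast (R := A)) (hD k (Finset.mem_range.1 hk))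
      push_cast at e3
      calc ((n : A) * b) ^ (k + 1 + 1) * ((p.choose (k + 1 + 1) : ℕ) : A)
          = n * (((p.choose (k + 2) : ℕ) : A) * n ^ (k + 1)) * b ^ (k + 2) := by ring
        _ = _ := by rw [e3]; ring
    rw [e2, ← Finset.mul_sum, ← Finset.sum_mul, ← Finset.mul_sum]
    ring
  rw [h, eq_comm, add_eq_left] at h1
  have h2 := nat_mul_eq_zero htf (by omega) h1
  have h3 : (e : A) * ((c : A) * b + (q : A) * (∑ k ∈ Finset.range (p - 1), (D k : A) * b ^ (k + 1)) * b) = 0 := by
    have e4 : (p : A) = (e : A) * c := by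
      rw [hpe]
      push_cast
      rfl
    rw [e4] at h2
    linear_combination h2
  have he : e ≠ 0 := by
    rintro rfl
    omega
  have h4 := nat_mul_eq_zero htf he h3
  refine eq_zero_of_eq htf hq hcq b (-(∑ k ∈ Finset.range (p - 1), (D k : A) * b ^ (k + 1))) ?_
  linear_combination h4

include htf in
theorem prime_case {p n : ℕ} (hp : p.Prime) (hn : 3 ≤ n) {b : A} (h : (1 + (n : A) * b) ^ p = 1) : b = 0 := by
  by_cases hpn : p ∣ n
  · obtain ⟨m, rfl⟩ := hpn
    rcases hp.eq_two_or_odd with rfl | hodd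
    · refine prime_aux htf le_rfl (by omega) (c := 1) (q := m) (e := 2) (by omega) (Nat.coprime_one_left m) rfl ?_ h
      intro k hk
      have hk0 : k = 0 := by omega
      subst hk0
      simp
    · have hp3 : 3 ≤ p := by
        have := hp.two_le
        omega
      refine prime_aux htf hp.two_le (by omega) (c := 1) (q := p) (e := p) hp.two_le (Nat.coprime_one_left p)
        (mul_one p).symm ?_ h
      intro k hk
      by_cases hk2 : k + 2 = p
      · refine Dvd.dvd.mul_left ?_ _
        have : k + 1 = 2 + (k - 1) := by omega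
        rw [this, pow_add]
        refine Dvd.dvd.mul_right ?_ _
        rw [mul_pow, pow_two]
        exact Dvd.intro _ rfl
      · refine Nat.mul_dvd_mul ?_ ?_
        · exact hp.dvd_choose_self (by omega) (by omega)
        · rw [pow_succ]
          exact Dvd.dvd.mul_left (Dvd.intro _ rfl) _
  · refine prime_aux htf hp.two_le (by omega) (c := p) (q := n) (e := 1) (by omega)
      ((Nat.Prime.coprime_iff_not_dvd hp).2 hpn) (one_mul p).symm ?_ h
    intro k hk
    rw [one_mul, pow_succ]
    exact Dvd.dvd.mul_left (Dvd.intro_left _ rfl) _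

end prime

section main

/-- The commutative case. -/
theorem comm_case {A : Type*} [CommRing A] [Module.Finite ℤ A]
    (htf : ∀ (m : ℤ) (r : A), m ≠ 0 → m • r = 0 → r = 0) {n : ℕ} (hn : 3 ≤ n) :
    ∀ (N : ℕ), 0 < N → ∀ b : A, (1 + (n : A) * b) ^ N = 1 → 1 + (n : A) * b = 1 := by
  intro N
  induction N using Nat.strong_induction_on with
  | _ N ih =>
    intro hN b hb
    by_cases h1 : N = 1
    · rwa [h1, pow_one] at hb
    · obtain ⟨p, hp, hpN⟩ := Nat.exists_prime_and_dvd h1
      obtain ⟨m, rfl⟩ := hpN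
      have hm : 0 < m := Nat.pos_of_ne_zero (by
        rintro rfl
        simp at hN)
      obtain ⟨b', hb'⟩ : ∃ b', (1 + (n : A) * b) ^ m = 1 + (n : A) * b' := by
        have h2 : (1 + (n : A) * b) - 1 ∣ (1 + (n : A) * b) ^ m - 1 ^ m := sub_dvd_pow_sub_pow _ _ _
        obtain ⟨w, hw⟩ := h2
        refine ⟨b * w, ?_⟩
        rw [one_pow] at hw
        linear_combination hw
      have h3 : (1 + (n : A) * b') ^ p = 1 := by
        rw [← hb', ← pow_mul, mul_comm m p]
        exact hb
      have h4 := prime_case htf hp hn h3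
      rw [h4, mul_zero, add_zero] at hb'
      refine ih m ?_ hm b hb'
      calc m = 1 * m := (one_mul m).symm
        _ < p * m := Nat.mul_lt_mul_of_pos_right hp.one_lt hm

/-- **Serre's lemma**, algebraic part. -/
theorem eq_one_of_pow {R : Type*} [Ring R] [Module.Finite ℤ R]
    (htf : ∀ (m : ℤ) (r : R), m ≠ 0 → m • r = 0 → r = 0) {n : ℕ} (hn : 3 ≤ n) {α β : R} (h : α = 1 + (n : R) * β)
    {N : ℕ} (hN : 0 < N) (hα : α ^ N = 1) : α = 1 := by
  let A := Algebra.adjoin ℤ ({β} : Set R)
  let _ : CommRing A := Algebra.adjoinCommRingOfComm ℤ (by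
    intro x hx y hy
    rw [Set.mem_singleton_iff] at hx hy
    rw [hx, hy])
  let b : A := ⟨β, Algebra.self_mem_adjoin_singleton ℤ β⟩
  have hfin : Module.Finite ℤ A := inferInstanceAs (Module.Finite ℤ (Subalgebra.toSubmodule (Algebra.adjoin ℤ ({β} : Set R))))
  have hb : (1 + (n : A) * b) ^ N = 1 := by
    apply Subtype.ext
    have : (((1 + (n : A) * b) ^ N : A) : R) = (1 + (n : R) * β) ^ N := by
      simp [b]
    rw [this, ← h, hα]
    rfl
  have h1 := comm_case (A := A) (fun m r hm hr => by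
    apply Subtype.ext
    refine htf m r hm ?_
    have := congrArg (Subtype.val) hr
    simpa using this) hn N hN b hb
  rw [h]
  have := congrArg (Subtype.val) h1
  simpa [b] using this

end main

end K540.Ag.SerreAlg
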